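import Mathlib

/-!
Owner: helper18 (S3841). The generalised quaternion group of order sixteen has no faithful action on a small
`3`-group: if `b` inverts `a` and `a ^ 4` is an involution then `a ^ 4` is trivial.
-/

set_option autoImplicit false
set_option linter.style.haveILetI false
set_option linter.unusedSectionVars false

namespace CfsgLib.SEModule

open Subgroup Module

theorem pow_four_ne_neg_one : ∀ c : ZMod 3, c ^ 4 ≠ -1 := by decide

theorem neg_one_cube : (-1 : ZMod 3) ^ 3 = -1 := by decide

theorem coefficient_absurd : ∀ α β : ZMod 3, α * α + β * (α * β) + 1 = 0 → α * β + β * (α + β * β) = 0 →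
    α * α - 1 = 0 → α * β + β = 0 → False := by decide

theorem eq_zero_of_eigen {U : Type*} [AddCommGroup U] [Module (ZMod 3) U] (f : Module.End (ZMod 3) U)
    (h4 : ∀ x, f (f (f (f x))) = -x) {v : U} {c : ZMod 3} (hc : c • v = f v) : v = 0 := by
  haveI : Fact (Nat.Prime 3) := ⟨Nat.prime_three⟩
  have h1 := h4 v
  simp only [← hc, map_smul, smul_smul] at h1
  have h2 : (c ^ 4 + 1) • v = 0 := by
    rw [add_smul, one_smul, show c ^ 4 = c * c * c * c by ring, h1, neg_add_cancel]
  exact (smul_eq_zero.1 h2).resolve_left fun h => pow_four_ne_neg_one c (eq_neg_of_add_eq_zero_left h)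

/-- In dimension at most three over three elements no element inverted by conjugation has fourth power `-1`. -/
theorem false_of_pow_four_eq_neg {U : Type*} [AddCommGroup U] [Module (ZMod 3) U] [Finite U] [Nontrivial U]
    (hdim : finrank (ZMod 3) U ≤ 3) (f g g' : Module.End (ZMod 3) U) (hg : g' * g = 1)
    (hf : f ^ 4 = -1) (hfg : f * g * f = g) : False := by
  haveI : Fact (Nat.Prime 3) := ⟨Nat.prime_three⟩
  have h4 : ∀ x, f (f (f (f x))) = -x := fun x => by
    have := LinearMap.congr_fun hf x
    simpa [pow_succ, Module.End.mul_apply] using this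
  have hd := congrArg LinearMap.det hf
  rw [map_pow, show (-1 : Module.End (ZMod 3) U) = (-1 : ZMod 3) • LinearMap.id by simp; rfl, LinearMap.det_smul,
    LinearMap.det_id, mul_one] at hd
  have hnosq := pow_four_ne_neg_one
  have hfin : finrank (ZMod 3) U = 2 := by
    have hpos : 0 < finrank (ZMod 3) U := Module.finrank_pos
    rcases (show finrank (ZMod 3) U = 1 ∨ finrank (ZMod 3) U = 2 ∨ finrank (ZMod 3) U = 3 by omega) with h | h | h
    · rw [h, pow_one] at hd; exact absurd hd (hnosq _)
    · exact h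
    · rw [h, neg_one_cube] at hd; exact absurd hd (hnosq _)
  obtain ⟨v, hv⟩ := exists_ne (0 : U)
  have hind : LinearIndependent (ZMod 3) ![v, f v] := by
    rw [LinearIndependent.pair_iff' hv]
    exact fun c hc => hv (eq_zero_of_eigen f h4 hc)
  have hspan := hind.span_eq_top_of_card_eq_finrank (by simp [hfin])
  have hex : ∀ x : U, ∃ p q : ZMod 3, p • v + q • f v = x := fun x => by
    have hx : x ∈ Submodule.span (ZMod 3) (Set.range ![v, f v]) := hspan ▸ Submodule.mem_top
    simp only [Matrix.range_cons, Matrix.range_empty, Set.union_empty, Set.singleton_union] at hx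
    exact Submodule.mem_span_pair.1 hx
  obtain ⟨α, β, hab⟩ := hex (f (f v))
  have hall : ∀ x : U, f (f x) = α • x + β • f x := fun x => by
    obtain ⟨p, q, rfl⟩ := hex x
    simp only [map_add, map_smul, ← hab]
    module
  have hcoef : ∀ (x : U), x ≠ 0 → ∀ p q : ZMod 3, p • x + q • f x = 0 → p = 0 ∧ q = 0 := by
    intro x hx
    refine LinearIndependent.pair_iff.1 ?_
    rw [LinearIndependent.pair_iff' hx]
    exact fun c hc => hx (eq_zero_of_eigen f h4 hc)
  -- the fourth power
  have e1' : (α * α + β * (α * β) + 1) • v + (α * β + β * (α + β * β)) • f v = 0 := by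
    have e2 := h4 v
    rw [hall v, map_add, map_smul, map_smul, hall v, map_add, map_smul, map_smul, map_add, map_smul, map_smul,
      hall v, eq_neg_iff_add_eq_zero] at e2
    rw [← e2]
    module
  obtain ⟨c1, c2⟩ := hcoef v hv _ _ e1'
  -- the inverting element
  have hu : g v ≠ 0 := fun h => hv (by
    have := congrArg g' h
    rw [map_zero, ← Module.End.mul_apply, hg] at this
    exact this)
  have hrel : ∀ x, f (g (f x)) = g x := fun x => LinearMap.congr_fun hfg x
  have e3 : f (f (g (f (f v)))) = g v := by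
    rw [hrel, hrel]
  rw [← hab, map_add, map_smul, map_smul, map_add, map_add, map_smul, map_smul, map_smul, map_smul, hrel] at e3
  have e4 : (α * α - 1) • g v + (α * β + β) • f (g v) = 0 := by
    rw [hall] at e3
    calc (α * α - 1) • g v + (α * β + β) • f (g v)
        = (α • (α • g v + β • f (g v)) + β • f (g v)) - g v := by module
      _ = 0 := by rw [e3, sub_self]
  obtain ⟨c3, c4⟩ := hcoef _ hu _ _ e4
  exact coefficient_absurd α β c1 c2 c3 c4

/-- A `3`-group of order dividing 27 is not acted on faithfully. -/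
theorem pow_four_eq_one_of_comm {R : Type*} [CommGroup R] [Finite R] (hR : Nat.card R ∣ 27) (a b : MulAut R)
    (h8 : a ^ 4 * a ^ 4 = 1) (hb : b * a * b⁻¹ = a⁻¹) : a ^ 4 = 1 := by
  classical
  haveI : Fact (Nat.Prime 3) := ⟨Nat.prime_three⟩
  by_contra hne
  set z := a ^ 4 with hz
  have hzz : ∀ x, z (z x) = x := fun x => DFunLike.congr_fun h8 x
  let U : Subgroup R :=
    { carrier := {x | z x = x⁻¹ ∧ x ^ 3 = 1}
      one_mem' := ⟨by simp, one_pow _⟩
      mul_mem' := fun {x y} hx hy => ⟨by rw [map_mul, hx.1, hy.1, mul_inv], by rw [mul_pow, hx.2, hy.2, one_mul]⟩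
      inv_mem' := fun {x} hx => ⟨by rw [map_inv, hx.1], by rw [inv_pow, hx.2, inv_one]⟩ }
  have hza : ∀ x, z (a x) = a (z x) := fun x => by
    rw [← MulAut.mul_apply, ← MulAut.mul_apply, hz, ← pow_succ, ← pow_succ']
  have hzb : ∀ x, z (b x) = b (z x) := fun x => by
    have h1 : b * z * b⁻¹ = z := by
      have h2 := congrArg (· ^ 4) hb
      rw [conj_pow, inv_pow, ← hz] at h2
      rw [h2, inv_eq_of_mul_eq_one_right h8]
    rw [← MulAut.mul_apply, ← MulAut.mul_apply, mul_inv_eq_iff_eq_mul.1 h1]
  -- a nontrivial inverted element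
  obtain ⟨y, hy⟩ : ∃ y, z y ≠ y := not_forall.1 fun h => hne (MulEquiv.ext fun x => h x)
  set x := y * (z y)⁻¹ with hx
  have hx1 : x ≠ 1 := fun h => hy (mul_inv_eq_one.1 h).symm
  have hzx : z x = x⁻¹ := by rw [hx, map_mul, map_inv, hzz, mul_inv_rev, inv_inv]
  obtain ⟨i, hi, hord⟩ := (Nat.dvd_prime_pow Nat.prime_three).1
    ((orderOf_dvd_natCard x).trans (show Nat.card R ∣ 3 ^ 3 from hR))
  have hi0 : i ≠ 0 := fun h => hx1 (orderOf_eq_one_iff.1 (by rw [hord, h, pow_zero]))
  obtain ⟨j, rfl⟩ := Nat.exists_eq_succ_of_ne_zero hi0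
  have hxU : x ^ 3 ^ j ∈ U := ⟨by rw [map_pow, hzx, inv_pow],
    by rw [← pow_mul, ← pow_succ, ← hord, pow_orderOf_eq_one]⟩
  have hxne : x ^ 3 ^ j ≠ 1 := fun h => by
    have h1 := orderOf_dvd_of_pow_eq_one h
    rw [hord, Nat.pow_dvd_pow_iff_le_right (by norm_num : 1 < 3)] at h1
    omega
  have hstab : ∀ c : MulAut R, (∀ x, z (c x) = c (z x)) → ∀ u ∈ U, c u ∈ U := fun c hc u hu =>
    ⟨by rw [hc, hu.1, map_inv], by rw [← map_pow, hu.2, map_one]⟩
  letI : Module (ZMod 3) (Additive U) := AddCommGroup.zmodModule fun u => Subtype.ext u.toMul.2.2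
  haveI : Nontrivial (Additive U) := ⟨⟨Additive.ofMul ⟨_, hxU⟩, 0, fun h => hxne (congrArg Subtype.val h)⟩⟩
  let mk : ∀ c : MulAut R, (∀ x, z (c x) = c (z x)) → Module.End (ZMod 3) (Additive U) := fun c hc =>
    AddMonoidHom.toZModLinearMap 3
      (MonoidHom.toAdditive { toFun := fun u : U => (⟨c u, hstab c hc u u.2⟩ : U)
                              map_one' := Subtype.ext (map_one c)
                              map_mul' := fun u w => Subtype.ext (map_mul c _ _) })
  have hzb' : ∀ x, z (b⁻¹ x) = b⁻¹ (z x) := fun x => by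
    apply b.injective
    rw [← hzb]
    simp
  refine false_of_pow_four_eq_neg (U := Additive U) ?_ (mk a hza) (mk b hzb) (mk b⁻¹ hzb') ?_ ?_ ?_
  · have h1 := Module.natCard_eq_pow_finrank (K := ZMod 3) (V := Additive U)
    rw [Nat.card_zmod, Nat.card_congr Additive.toMul] at h1
    have h2 : 3 ^ finrank (ZMod 3) (Additive U) ∣ 3 ^ 3 := h1 ▸ U.card_subgroup_dvd_card.trans hR
    exact (Nat.pow_dvd_pow_iff_le_right (by norm_num)).1 h2
  · refine LinearMap.ext fun u => Additive.toMul.injective (Subtype.ext ?_)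
    show b⁻¹ (b (u.toMul : R)) = u.toMul
    rw [← MulAut.mul_apply, inv_mul_cancel, MulAut.one_apply]
  · refine LinearMap.ext fun u => Additive.toMul.injective (Subtype.ext ?_)
    simp only [pow_succ, pow_zero, one_mul]
    show a (a (a (a (u.toMul : R)))) = (u.toMul : R)⁻¹
    rw [← MulAut.mul_apply, ← MulAut.mul_apply, ← MulAut.mul_apply, ← pow_two, ← pow_succ, ← pow_succ]
    exact u.toMul.2.1
  · refine LinearMap.ext fun u => Additive.toMul.injective (Subtype.ext ?_)
    show a (b (a (u.toMul : R))) = b (u.toMul : R)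
    rw [← MulAut.mul_apply, ← MulAut.mul_apply]
    congr 1
    rw [mul_assoc, show b * a = a⁻¹ * b from by rw [← hb, inv_mul_cancel_right], mul_inv_cancel_left]


/-- Restriction to an invariant subgroup. -/
noncomputable def restrictAut {R : Type*} [Group R] [Finite R] (U : Subgroup R) (c : MulAut R)
    (h : ∀ x ∈ U, c x ∈ U) : MulAut U :=
  MulEquiv.ofBijective
    ({ toFun := fun u : U => (⟨c u, h u u.2⟩ : U)
       map_one' := Subtype.ext (map_one c)
       map_mul' := fun u w => Subtype.ext (map_mul c _ _) } : U →* U)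
    (Finite.injective_iff_bijective.1 fun _ _ e => Subtype.ext (c.injective (congrArg Subtype.val e)))

@[simp] theorem restrictAut_apply {R : Type*} [Group R] [Finite R] (U : Subgroup R) (c : MulAut R)
    (h : ∀ x ∈ U, c x ∈ U) (u : U) : ((restrictAut U c h u : U) : R) = c u := rfl

/-- A `3`-group of order dividing 81, abelian only if of order dividing 27, is not acted on faithfully. -/
theorem pow_four_eq_one {R : Type*} [Group R] [Finite R] (hR : Nat.card R ∣ 81)
    (hab : IsMulCommutative R → Nat.card R ∣ 27) (a b : MulAut R)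
    (h8 : a ^ 4 * a ^ 4 = 1) (hb : b * a * b⁻¹ = a⁻¹) : a ^ 4 = 1 := by
  classical
  haveI : Fact (Nat.Prime 3) := ⟨Nat.prime_three⟩
  obtain ⟨n, hn⟩ : ∃ n, n = Nat.card R := ⟨_, rfl⟩
  induction n using Nat.strong_induction_on generalizing R with
  | _ n ih =>
    by_cases hc : IsMulCommutative R
    · letI : CommGroup R := { (inferInstance : Group R) with mul_comm := hc.is_comm.comm }
      exact pow_four_eq_one_of_comm (hab hc) a b h8 hb
    -- the centre and the quotient
    have hp : IsPGroup 3 R := by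
      obtain ⟨i, -, hi⟩ := (Nat.dvd_prime_pow Nat.prime_three).1 (show Nat.card R ∣ 3 ^ 4 from hR)
      exact IsPGroup.of_card hi
    haveI : Nontrivial R := not_subsingleton_iff_nontrivial.1 fun h => hc ⟨⟨fun _ _ => Subsingleton.elim _ _⟩⟩
    haveI := hp.center_nontrivial
    set Z := Subgroup.center R
    have hZlt : Nat.card Z < Nat.card R := lt_of_le_of_ne (Subgroup.card_le_card_group Z) fun e => hc
      ⟨⟨fun x y => (Subgroup.mem_center_iff.1 ((Subgroup.eq_top_of_card_eq Z e).ge (Subgroup.mem_top y)) x)⟩⟩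
    have hQlt : Nat.card (R ⧸ Z) < Nat.card R := by
      have h1 : 1 < Nat.card Z := Finite.one_lt_card
      have h2 : 0 < Nat.card (R ⧸ Z) := Nat.card_pos
      have h3 := Subgroup.card_eq_card_quotient_mul_card_subgroup Z
      rw [h3]; exact lt_mul_of_one_lt_right h2 h1
    have h27 : ∀ m, m ∣ Nat.card R → m < Nat.card R → m ∣ 27 := by
      intro m hm hlt
      obtain ⟨i, hi, he⟩ := (Nat.dvd_prime_pow Nat.prime_three).1 (show Nat.card R ∣ 3 ^ 4 from hR)
      rw [he] at hm hlt
      obtain ⟨j, hj, rfl⟩ := (Nat.dvd_prime_pow Nat.prime_three).1 hm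
      exact (pow_dvd_pow 3 (by have := (Nat.pow_lt_pow_iff_right (by norm_num : 1 < 3)).1 hlt; omega : j ≤ 3))
    have hZd := h27 _ Z.card_subgroup_dvd_card hZlt
    have hQd := h27 _ (Subgroup.card_quotient_dvd_card Z) hQlt
    have hchar : ∀ c : MulAut R, Z.map c.toMonoidHom = Z := fun c =>
      Subgroup.characteristic_iff_map_eq.1 inferInstance c
    have hcZ : ∀ c : MulAut R, ∀ x ∈ Z, c x ∈ Z := fun c x hx => hchar c ▸ ⟨x, hx, rfl⟩
    -- trivial on the centre
    have hcenter : ∀ x ∈ Z, (a ^ 4) x = x := by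
      have e : ∀ c d : MulAut R, restrictAut Z c (hcZ c) * restrictAut Z d (hcZ d) = restrictAut Z (c * d) (hcZ _) :=
        fun c d => MulEquiv.ext fun u => Subtype.ext rfl
      have e1 : restrictAut Z 1 (hcZ 1) = 1 := MulEquiv.ext fun u => Subtype.ext rfl
      let r : MulAut R →* MulAut Z :=
        { toFun := fun c => restrictAut Z c (hcZ c), map_one' := e1, map_mul' := fun c d => (e c d).symm }
      have h := ih _ (hn ▸ hZlt) (R := Z) (hZd.trans (by norm_num)) (fun _ => hZd) (r a) (r b)
        (by rw [← map_pow, ← map_mul, h8, map_one]) (by rw [← map_inv, ← map_mul, ← map_mul, hb, map_inv]) rfl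
      intro x hx
      rw [← map_pow] at h
      exact congrArg Subtype.val (DFunLike.congr_fun h ⟨x, hx⟩)
    -- trivial on the quotient
    have hquot : ∀ x, x⁻¹ * (a ^ 4) x ∈ Z := by
      let q : MulAut R →* MulAut (R ⧸ Z) :=
        { toFun := fun c => QuotientGroup.congr Z Z c (hchar c)
          map_one' := MulEquiv.ext fun x => QuotientGroup.induction_on x fun y => rfl
          map_mul' := fun c d => MulEquiv.ext fun x => QuotientGroup.induction_on x fun y => rfl }
      have h := ih _ (hn ▸ hQlt) (R := R ⧸ Z) (hQd.trans (by norm_num)) (fun _ => hQd) (q a) (q b)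
        (by rw [← map_pow, ← map_mul, h8, map_one]) (by rw [← map_inv, ← map_mul, ← map_mul, hb, map_inv]) rfl
      intro x
      rw [← map_pow] at h
      have h1 : (((a ^ 4) x : R) : R ⧸ Z) = (x : R ⧸ Z) := DFunLike.congr_fun h (x : R ⧸ Z)
      exact QuotientGroup.eq.1 h1.symm
    refine MulEquiv.ext fun x => ?_
    show (a ^ 4) x = x
    set c := x⁻¹ * (a ^ 4) x with hc'
    have hax : (a ^ 4) x = x * c := (mul_inv_cancel_left _ _).symm
    have h2 : x = x * c * c := by
      have h := DFunLike.congr_fun h8 x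
      rw [MulAut.mul_apply, MulAut.one_apply, hax, map_mul, hax, hcenter c (hquot x)] at h
      exact h.symm
    have hc2 : c * c = 1 := by rwa [mul_assoc, left_eq_mul] at h2
    have hc1 : c = 1 := by
      have h3 : orderOf c ∣ 2 := orderOf_dvd_of_pow_eq_one (by rw [pow_two, hc2])
      exact orderOf_eq_one_iff.1 (Nat.eq_one_of_dvd_coprimes (show Nat.Coprime 2 81 by norm_num) h3
        ((orderOf_dvd_natCard c).trans hR))
    rw [hax, hc1, mul_one]

end CfsgLib.SEModule
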