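import Cfsg.Agent.Lib.ClassSizes.BurnsideAut

/-!
Owner: helper18 (S3841). Faithful modules over the field with two elements: the rank of `ρ g - 1`.

* `dvd_two_pow_rk`: an element of odd prime power order acts freely outside the fixed space of its power
  of prime order.
* `two_pow_add_rk_le`: the kernel chain of a unipotent element.
-/

set_option autoImplicit false
set_option linter.style.haveILetI false
set_option linter.unusedSectionVars false

namespace CfsgLib.SEModule

open LinearMap Module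

variable {G : Type*} [Group G] [Finite G] {V : Type*} [AddCommGroup V] [Module (ZMod 2) V]
  [Module.Finite (ZMod 2) V] (ρ : Representation (ZMod 2) G V)

/-- The rank of `ρ g - 1`. -/
noncomputable def rk (g : G) : ℕ := finrank (ZMod 2) ↥(LinearMap.range (ρ g - 1))

theorem rk_le_finrank (g : G) : rk ρ g ≤ finrank (ZMod 2) V := Submodule.finrank_le _

theorem add_self_zero {M : Type*} [AddCommGroup M] [Module (ZMod 2) M] (x : M) : x + x = 0 := by
  rw [← two_smul (ZMod 2) x, show (2 : ZMod 2) = 0 from rfl, zero_smul]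

theorem sub_one_sq (f : Module.End (ZMod 2) V) : (f - 1) ^ 2 = f ^ 2 - 1 := by
  have h := add_self_zero f
  have h' := add_self_zero (1 : Module.End (ZMod 2) V)
  rw [pow_two, pow_two, sub_mul, mul_sub, mul_one, one_mul]
  linear_combination (norm := abel) -h + h'

theorem sub_one_two_pow (f : Module.End (ZMod 2) V) : ∀ j : ℕ, (f - 1) ^ 2 ^ j = f ^ 2 ^ j - 1
  | 0 => by simp
  | j + 1 => by rw [pow_succ, pow_mul, sub_one_two_pow f j, sub_one_sq, ← pow_mul]

theorem rk_mul_le (g h : G) : rk ρ (g * h) ≤ rk ρ g + rk ρ h := by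
  have e : ρ (g * h) - 1 = (ρ g - 1) * ρ h + (ρ h - 1) := by
    rw [map_mul, sub_mul, one_mul]; abel
  have hle : LinearMap.range (ρ (g * h) - 1) ≤ LinearMap.range (ρ g - 1) ⊔ LinearMap.range (ρ h - 1) := by
    rw [e]
    rintro _ ⟨v, rfl⟩
    rw [LinearMap.add_apply]
    exact add_mem (Submodule.mem_sup_left ⟨ρ h v, rfl⟩) (Submodule.mem_sup_right ⟨v, rfl⟩)
  exact (Submodule.finrank_mono hle).trans (Submodule.finrank_add_le_finrank_add_finrank _ _)

theorem rk_conj (c g : G) : rk ρ (c * g * c⁻¹) = rk ρ g := by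
  have e : ρ (c * g * c⁻¹) - 1 = ρ c * (ρ g - 1) * ρ c⁻¹ := by
    rw [mul_sub, sub_mul, mul_one, ← map_mul, ← map_mul, ← map_mul, mul_inv_cancel, map_one]
  have hle : ∀ c g : G, rk ρ (c * g * c⁻¹) ≤ rk ρ g := by
    intro c g
    have e : ρ (c * g * c⁻¹) - 1 = ρ c * (ρ g - 1) * ρ c⁻¹ := by
      rw [mul_sub, sub_mul, mul_one, ← map_mul, ← map_mul, ← map_mul, mul_inv_cancel, map_one]
    have h1 : LinearMap.range (ρ (c * g * c⁻¹) - 1) ≤ (LinearMap.range (ρ g - 1)).map (ρ c) := by
      rw [e]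
      rintro _ ⟨v, rfl⟩
      exact ⟨(ρ g - 1) (ρ c⁻¹ v), ⟨_, rfl⟩, rfl⟩
    exact (Submodule.finrank_mono h1).trans (Submodule.finrank_map_le _ _)
  refine le_antisymm (hle c g) ?_
  conv_lhs => rw [show g = c⁻¹ * (c * g * c⁻¹) * c⁻¹⁻¹ by group]
  exact hle _ _

theorem rk_pow_le (g : G) (i : ℕ) : rk ρ (g ^ i) ≤ rk ρ g := by
  refine Submodule.finrank_mono ?_
  induction i with
  | zero => simp
  | succ i ih =>
    rw [pow_succ', map_mul, show ρ g * ρ (g ^ i) - 1 = (ρ g - 1) * ρ (g ^ i) + (ρ (g ^ i) - 1) by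
      rw [sub_mul, one_mul]; abel]
    rintro _ ⟨v, rfl⟩
    exact add_mem (LinearMap.mem_range_self _ _) (ih ⟨v, rfl⟩)

theorem rk_inv (g : G) : rk ρ g⁻¹ = rk ρ g := by
  obtain ⟨i, hi⟩ := (mem_powers_iff_mem_zpowers (x := g) (y := g⁻¹)).2 (inv_mem (Subgroup.mem_zpowers g))
  obtain ⟨j, hj⟩ := (mem_powers_iff_mem_zpowers (x := g⁻¹) (y := g)).2
    (Subgroup.zpowers_inv (g := g) ▸ Subgroup.mem_zpowers g)
  exact le_antisymm ((congrArg (rk ρ) hi.symm).trans_le (rk_pow_le ρ g i))
    ((congrArg (rk ρ) hj.symm).trans_le (rk_pow_le ρ g⁻¹ j))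

variable {ρ}

theorem rk_eq_zero (hρ : Function.Injective ρ) {g : G} (h : rk ρ g = 0) : g = 1 := by
  rw [rk, Submodule.finrank_eq_zero, LinearMap.range_eq_bot, sub_eq_zero] at h
  exact hρ (by rw [h, map_one])

/-- An element of odd prime power order acts freely outside the fixed space of its power of prime order. -/
theorem dvd_two_pow_rk (hρ : Function.Injective ρ) {p a : ℕ} [hp : Fact p.Prime] (hp2 : p ≠ 2) {y : G}
    (hy : orderOf y = p ^ (a + 1)) :
    0 < rk ρ (y ^ p ^ a) ∧ p ^ (a + 1) ∣ 2 ^ rk ρ (y ^ p ^ a) - 1 := by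
  classical
  haveI : Finite V := Module.finite_of_finite (ZMod 2)
  set w := y ^ p ^ a with hwdef
  have hw1 : w ≠ 1 := fun h => by
    have h1 := orderOf_dvd_of_pow_eq_one h
    rw [hy, Nat.pow_dvd_pow_iff_le_right hp.out.one_lt] at h1
    omega
  refine ⟨Nat.pos_of_ne_zero fun h => hw1 (rk_eq_zero hρ h), ?_⟩
  set C : Submodule (ZMod 2) V := LinearMap.ker (ρ w - 1)
  have hmemC : ∀ v : V, v ∈ C ↔ ρ w v = v := fun v => by
    rw [LinearMap.mem_ker, LinearMap.sub_apply, Module.End.one_apply, sub_eq_zero]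
  set Y := Subgroup.zpowers y
  have hmove : ∀ g ∈ Y, ∀ v : V, v ∉ C → ρ g v ∉ C := by
    intro g hg v hv h
    rw [hmemC] at h hv
    obtain ⟨k, rfl⟩ := hg
    have hc : w * y ^ k = y ^ k * w := ((Commute.refl y).zpow_right k).pow_left (p ^ a)
    have h1 : ρ (y ^ k)⁻¹ (ρ w (ρ (y ^ k) v)) = ρ (y ^ k)⁻¹ (ρ (y ^ k) v) := congrArg _ h
    rw [← Module.End.mul_apply, ← map_mul, ← Module.End.mul_apply, ← map_mul, ← Module.End.mul_apply,
      ← map_mul, mul_assoc, hc, inv_mul_cancel_left, inv_mul_cancel, map_one, Module.End.one_apply] at h1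
    exact hv h1
  let X := {v : V // v ∉ C}
  letI : MulAction Y X :=
    { smul := fun g v => ⟨ρ (g : G) v.1, hmove g g.2 v.1 v.2⟩
      one_smul := fun v => Subtype.ext (show ρ (1 : G) v.1 = v.1 by rw [map_one]; rfl)
      mul_smul := fun g h v => Subtype.ext (show ρ ((g : G) * h) v.1 = ρ (g : G) (ρ (h : G) v.1) by
        rw [map_mul]; rfl) }
  have hfree : ∀ x : X, MulAction.stabilizer Y x = ⊥ := by
    intro x
    refine (Subgroup.eq_bot_iff_forall _).2 fun g hg => ?_
    by_contra hg1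
    have hfix : ρ (g : G) x.1 = x.1 := congrArg Subtype.val hg
    -- the power of prime order is a power of `g`
    have hwy : w ∈ Subgroup.zpowers (g : G) := by
      obtain ⟨k, hk⟩ := mem_powers_iff_mem_zpowers.2 g.2
      replace hk : y ^ k = (g : G) := hk
      have hk0 : k ≠ 0 := fun e => hg1 (Subtype.ext (by rw [← hk, e, pow_zero]; rfl))
      obtain ⟨b, u, hu, hku⟩ := Nat.exists_eq_pow_mul_and_not_dvd hk0 p hp.out.ne_one
      have hb : b ≤ a := by
        by_contra hb
        refine hg1 (Subtype.ext ?_)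
        rw [← hk, hku, Subgroup.coe_one]
        refine orderOf_dvd_iff_pow_eq_one.1 (hy ▸ dvd_mul_of_dvd_left (pow_dvd_pow p ?_) u)
        omega
      have hordw : orderOf w = p := orderOf_eq_prime (by rw [hwdef, ← pow_mul, ← pow_succ, ← hy, pow_orderOf_eq_one]) hw1
      obtain ⟨n, hn⟩ := exists_pow_eq_self_of_coprime (x := w) (n := u)
        (by rw [hordw]; exact ((hp.out.coprime_iff_not_dvd).2 hu).symm)
      rw [← hn, hwdef, ← pow_mul y (p ^ a) u, show p ^ a * u = k * p ^ (a - b) by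
        rw [hku, mul_right_comm, ← pow_add, Nat.add_sub_cancel' hb], pow_mul, hk]
      exact Subgroup.pow_mem _ (Subgroup.npow_mem_zpowers _ _) n
    obtain ⟨i, hi⟩ := (mem_powers_iff_mem_zpowers).2 hwy
    refine x.2 ((hmemC _).2 ?_)
    rw [← hi]
    clear hi
    induction i with
    | zero => simp
    | succ i ih => simp only [pow_succ', map_mul, Module.End.mul_apply] at ih ⊢; rw [ih, hfix]
  have hcard : p ^ (a + 1) ∣ Nat.card X := by
    rw [← hy, ← Nat.card_zpowers]
    exact CfsgLib.ClassSizes.card_dvd_card_of_free hfree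
  have hX : Nat.card X + Nat.card C = Nat.card V := by
    rw [← Nat.card_congr (Equiv.sumCompl (fun v : V => v ∈ C)), Nat.card_sum, add_comm]
  have hrn : finrank (ZMod 2) V = rk ρ w + finrank (ZMod 2) C :=
    (LinearMap.finrank_range_add_finrank_ker _).symm
  rw [Module.natCard_eq_pow_finrank (K := ZMod 2) (V := V), Module.natCard_eq_pow_finrank (K := ZMod 2) (V := C),
    Nat.card_zmod, hrn, pow_add] at hX
  have hX' : Nat.card X = 2 ^ finrank (ZMod 2) C * (2 ^ rk ρ w - 1) := by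
    rw [Nat.mul_sub, mul_one, mul_comm]
    exact Nat.eq_sub_of_add_eq hX
  rw [hX'] at hcard
  exact (Nat.Coprime.pow _ _ ((Nat.coprime_primes hp.out Nat.prime_two).2 hp2)).dvd_of_dvd_mul_left hcard

/-- An element whose order is divisible by a primitive divisor of `2 ^ D - 1` moves at least `D` dimensions. -/
theorem le_rk_of_primitive (hρ : Function.Injective ρ) {p a D : ℕ} [hp : Fact p.Prime] (hp2 : p ≠ 2) {x : G}
    (hx : p ^ (a + 1) ∣ orderOf x) (hprim : ∀ j : ℕ, 0 < j → j < D → ¬ p ^ (a + 1) ∣ 2 ^ j - 1) :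
    D ≤ rk ρ x := by
  set y := x ^ (orderOf x / p ^ (a + 1))
  have hy : orderOf y = p ^ (a + 1) := orderOf_pow_orderOf_div (orderOf_pos x).ne' hx
  obtain ⟨h0, h1⟩ := dvd_two_pow_rk hρ hp2 hy
  refine le_trans ?_ ((rk_pow_le ρ y (p ^ a)).trans (rk_pow_le ρ x (orderOf x / p ^ (a + 1))))
  by_contra h
  exact hprim _ h0 (not_le.1 h) h1


/-- The kernel chain of a unipotent element. -/
theorem two_pow_add_rk_le (hρ : Function.Injective ρ) {g : G} {j i : ℕ} (hg : g ^ 2 ^ i = 1)
    (h : g ^ 2 ^ j ≠ 1) : 2 ^ j + rk ρ (g ^ 2 ^ j) ≤ finrank (ZMod 2) V := by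
  set T : Module.End (ZMod 2) V := ρ g - 1 with hT
  have hTi : T ^ 2 ^ i = 0 := by rw [hT, sub_one_two_pow, ← map_pow, hg, map_one, sub_self]
  have hTj : T ^ 2 ^ j = ρ (g ^ 2 ^ j) - 1 := by rw [hT, sub_one_two_pow, map_pow]
  have hne : T ^ 2 ^ j ≠ 0 := fun e => h (hρ (by rw [map_one]; exact sub_eq_zero.1 (hTj.symm.trans e)))
  have hker : ∀ n, n ≤ 2 ^ j → n ≤ finrank (ZMod 2) (LinearMap.ker (T ^ n)) := by
    intro n hn
    induction n with
    | zero => exact Nat.zero_le _
    | succ n ih =>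
      have hlt : LinearMap.ker (T ^ n) < LinearMap.ker (T ^ (n + 1)) := by
        refine lt_of_le_of_ne (fun v hv => ?_) fun e => ?_
        · rw [LinearMap.mem_ker] at hv ⊢
          rw [pow_succ', Module.End.mul_apply, hv, map_zero]
        · have h1 : ∀ m, LinearMap.ker (T ^ n) = LinearMap.ker (T ^ (n + m)) :=
            Module.End.ker_pow_constant e
          refine hne ?_
          have h2 : LinearMap.ker (T ^ n) = ⊤ := by
            rw [h1 (2 ^ i), pow_add, hTi, mul_zero, LinearMap.ker_zero]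
          rw [show 2 ^ j = n + (2 ^ j - n) by omega, ← LinearMap.ker_eq_top, ← h1, h2]
      have := Submodule.finrank_lt_finrank_of_lt hlt
      have := ih (by omega)
      omega
  have h1 := LinearMap.finrank_range_add_finrank_ker (T ^ 2 ^ j)
  have h2 := hker _ le_rfl
  rw [rk, ← hTj]
  omega

end CfsgLib.SEModule
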