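import Cfsg.Agent.Lib.SEModule.UnitaryBound
import Cfsg.Agent.Lib.Classical.Dickson.Dihedral
import Cfsg.Agent.Lib.Recog.PrimeGraph
import Cfsg.Agent.Lib.Lie.Suzuki.Classes
import Cfsg.Agent.Lib.LocalEven.Zsigmondy
import Mathlib.FieldTheory.Finite.GaloisField

/-!
Owner: helper18 (S3841). In `PSL(2, q)`, `Sz(q)` and `PSU(3, q)`, `q` even: elements of orders with large
multiplicative order of `2`, products of two involutions among them, and the bound on elementary abelian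
2-subgroups.
-/

set_option autoImplicit false
set_option linter.style.haveILetI false
set_option linter.unusedSectionVars false

namespace CfsgLib.SEModule

open Matrix
open scoped MatrixGroups

universe u v

/-- An element of order a multiple of a divisor of `2 ^ D - 1` dividing no smaller such number. -/
def HasPrim (L : Type u) [Group L] (D : ℕ) : Prop :=
  ∃ p a : ℕ, p.Prime ∧ p ≠ 2 ∧ (∀ j : ℕ, 0 < j → j < D → ¬ p ^ (a + 1) ∣ 2 ^ j - 1) ∧
    ∃ x : L, p ^ (a + 1) ∣ orderOf x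

/-- The same for a product of two involutions. -/
def HasInv (L : Type u) [Group L] (D : ℕ) : Prop :=
  ∃ p a : ℕ, p.Prime ∧ p ≠ 2 ∧ (∀ j : ℕ, 0 < j → j < D → ¬ p ^ (a + 1) ∣ 2 ^ j - 1) ∧
    ∃ s t : L, s * s = 1 ∧ t * t = 1 ∧ s ≠ 1 ∧ t ≠ 1 ∧ p ^ (a + 1) ∣ orderOf (s * t)

/-- What the module bounds need from the simple group. -/
def Witness (L : Type u) [Group L] : Prop :=
  ∃ k n : ℕ, (Nat.card L).factorization 2 = k ∧ HasPrim L (2 * k) ∧ HasInv L (2 * n) ∧
    ∀ E : Subgroup L, (∀ x ∈ E, x * x = 1) → Nat.card E ≤ 2 ^ n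

theorem Witness.of_equiv {L : Type u} [Group L] {M : Type v} [Group M] (e : L ≃* M) (h : Witness M) : Witness L := by
  obtain ⟨k, n, hk, ⟨p, a, hp, hp2, hpr, x, hx⟩, ⟨p', a', hp', hp2', hpr', s, t, hs, ht, hs1, ht1, hst⟩, hE⟩ := h
  refine ⟨k, n, by rw [Nat.card_congr e.toEquiv, hk],
    ⟨p, a, hp, hp2, hpr, e.symm x, by rwa [MulEquiv.orderOf_eq]⟩,
    ⟨p', a', hp', hp2', hpr', e.symm s, e.symm t, by rw [← map_mul, hs, map_one], by rw [← map_mul, ht, map_one],
      fun h => hs1 (by simpa using h), fun h => ht1 (by simpa using h),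
      by rwa [← map_mul, MulEquiv.orderOf_eq]⟩, fun E hEx => ?_⟩
  rw [← Subgroup.card_map_of_injective (f := e.toMonoidHom) e.injective]
  refine hE _ ?_
  rintro _ ⟨y, hy, rfl⟩
  rw [← map_mul, hEx y hy, map_one]

theorem card_elem_le {L : Type u} [Group L] [Finite L] (E : Subgroup L) (hE : ∀ x ∈ E, x * x = 1) :
    Nat.card E ≤ 2 ^ (Nat.card L).factorization 2 := by
  haveI : Fact (Nat.Prime 2) := ⟨Nat.prime_two⟩
  have hp : IsPGroup 2 E := fun x => ⟨1, Subtype.ext (by rw [pow_one, SubgroupClass.coe_pow, pow_two]; exact hE x x.2)⟩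
  obtain ⟨i, hi⟩ := hp.exists_card_eq
  rw [hi]
  exact Nat.pow_le_pow_right two_pos
    ((Nat.prime_two.pow_dvd_iff_le_factorization Nat.card_pos.ne').1 (hi ▸ E.card_subgroup_dvd_card))

theorem factorization_two {N z k o : ℕ} (hz : Odd z) (ho : Odd o) (h : N * z = 2 ^ k * o) :
    N.factorization 2 = k := by
  have hN : N ≠ 0 := fun e => by
    rw [e, zero_mul, eq_comm, mul_eq_zero] at h
    rcases h with h | h
    · exact absurd h (by positivity)
    · exact absurd (h ▸ ho) (by decide)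
  have hz0 : z ≠ 0 := fun e => absurd (e ▸ hz) (by decide)
  have ho0 : o ≠ 0 := fun e => absurd (e ▸ ho) (by decide)
  have h1 := congrArg (fun n => Nat.factorization n 2) h
  simp only [Nat.factorization_mul hN hz0, Nat.factorization_mul (pow_ne_zero k two_ne_zero) ho0, Finsupp.add_apply,
    Nat.Prime.factorization_pow Nat.prime_two, Finsupp.single_eq_same] at h1
  rw [Nat.factorization_eq_zero_of_not_dvd (fun h => Nat.not_even_iff_odd.2 hz (even_iff_two_dvd.2 h)),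
    Nat.factorization_eq_zero_of_not_dvd (fun h => Nat.not_even_iff_odd.2 ho (even_iff_two_dvd.2 h))] at h1
  omega

/-- A divisor of `2 ^ m + 1` dividing no `2 ^ j - 1` with `j < 2 m`. -/
theorem exists_prim {m : ℕ} (hm : 1 ≤ m) :
    ∃ p a : ℕ, p.Prime ∧ p ≠ 2 ∧ (∀ j : ℕ, 0 < j → j < 2 * m → ¬ p ^ (a + 1) ∣ 2 ^ j - 1) ∧
      p ^ (a + 1) ∣ 2 ^ m + 1 ∧ (m ≠ 3 → a = 0) := by
  by_cases h3 : m = 3
  · subst h3
    refine ⟨3, 1, Nat.prime_three, by norm_num, fun j hj hj' => ?_, by norm_num, fun h => absurd rfl h⟩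
    interval_cases j <;> norm_num
  · obtain ⟨r, hr, hdvd, hmin⟩ := CfsgLib.Zsigmondy.exists_primitive_prime_divisor (a := 2) (n := 2 * m)
      (by norm_num) (by omega) (fun h => h3 (by omega)) (fun ⟨_, i, hi⟩ => by
        rcases i with _ | i
        · norm_num at hi
        · rw [pow_succ] at hi; omega)
    have hr2 : r ≠ 2 := by
      rintro rfl
      have h1 : 2 ∣ 2 ^ (2 * m) := dvd_pow_self 2 (by omega)
      have h2 := Nat.one_le_two_pow (n := 2 * m)
      omega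
    refine ⟨r, 0, hr, hr2, fun j hj hj' => by rw [zero_add, pow_one]; exact hmin j hj hj', ?_, fun _ => rfl⟩
    rw [zero_add, pow_one]
    have hfac : 2 ^ (2 * m) - 1 = (2 ^ m + 1) * (2 ^ m - 1) := by
      rw [← Nat.sq_sub_sq, one_pow, ← pow_mul, mul_comm]
    exact (hr.dvd_mul.1 (hfac ▸ hdvd)).resolve_right (hmin m hm (by omega))

/-- An inverted element is a product of two involutions. -/
theorem pair_of_inverted {L : Type u} [Group L] {s g : L} (hs : s * s = 1) (hg : g * g ≠ 1)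
    (h : s * g * s⁻¹ = g⁻¹) : (s * g) * (s * g) = 1 ∧ s ≠ 1 ∧ s * g ≠ 1 ∧ s * (s * g) = g := by
  have hsi : s⁻¹ = s := inv_eq_of_mul_eq_one_right hs
  refine ⟨?_, fun e => hg ?_, fun e => hg ?_, by rw [← mul_assoc, hs, one_mul]⟩
  · rw [show s * g * (s * g) = (s * g * s) * g by group]
    rw [hsi] at h
    rw [h, inv_mul_cancel]
  · rw [e, one_mul, inv_one, mul_one] at h
    nth_rw 1 [h]
    exact inv_mul_cancel g
  · have : g = s := by rw [← hsi]; exact eq_inv_of_mul_eq_one_right e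
    rw [this, hs]

section PSL

variable {F : Type} [Field F] [Fintype F] [CharP F 2]

theorem witness_psl {n : ℕ} (hn : 2 ≤ n) (hF : Fintype.card F = 2 ^ n) :
    Witness (Matrix.ProjectiveSpecialLinearGroup (Fin 2) F) := by
  haveI : Fact (Nat.Prime 2) := ⟨Nat.prime_two⟩
  have hq : 2 ∣ 2 ^ n := dvd_pow_self 2 (by omega)
  have h4 : 4 ≤ 2 ^ n := le_trans (by norm_num) (Nat.pow_le_pow_right two_pos hn)
  have hg : Nat.gcd 2 (2 ^ n - 1) = 1 := (Nat.prime_two.coprime_iff_not_dvd.2 (by omega)).gcd_eq_one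
  have hcard := CfsgLib.Classical.Dickson.gcd_mul_card_psl (F := F) hF
  rw [hg, one_mul] at hcard
  have hk : (Nat.card (Matrix.ProjectiveSpecialLinearGroup (Fin 2) F)).factorization 2 = n := by
    refine factorization_two (z := 1) odd_one (o := (2 ^ n) ^ 2 - 1) ?_ (by rw [mul_one, hcard])
    rw [Nat.odd_iff]
    have h2 : 2 ∣ (2 ^ n) ^ 2 := dvd_pow hq two_ne_zero
    have h16 : 4 ≤ (2 ^ n) ^ 2 := le_trans h4 (Nat.le_self_pow two_ne_zero _)
    omega
  obtain ⟨p, a, hp, hp2, hpr, hdvd, -⟩ := exists_prim (show 1 ≤ n by omega)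
  have hm2 : 2 ≤ p ^ (a + 1) := le_trans hp.two_le (Nat.le_self_pow a.succ_ne_zero p)
  obtain ⟨D, -, -, g, w, -, -, hgord, hw, hwg, -⟩ := CfsgLib.Classical.Dickson.exists_dihedral (F := F) 2
    hF (by omega) hm2 (Or.inl (by rwa [hg, Nat.div_one]))
  have hgg : g * g ≠ 1 := fun e => by
    have h1 : orderOf g ∣ 2 := orderOf_dvd_of_pow_eq_one (by rw [pow_two, e])
    rw [hgord] at h1
    exact hp2 ((Nat.prime_dvd_prime_iff_eq hp Nat.prime_two).1 ((dvd_pow_self p a.succ_ne_zero).trans h1))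
  obtain ⟨h1, h2, h3, h4'⟩ := pair_of_inverted hw hgg hwg
  exact ⟨n, n, hk, ⟨p, a, hp, hp2, hpr, g, hgord.symm.dvd⟩,
    ⟨p, a, hp, hp2, hpr, w, w * g, hw, h1, h2, h3, by rw [h4', hgord]⟩, fun E hE => hk ▸ card_elem_le E hE⟩

end PSL

section Suzuki

variable {F : Type} [Field F] [Fintype F] [CharP F 2] {m : ℕ}

open CfsgLib.Lie.Suzuki in
theorem witness_suzuki (hm : 1 ≤ m) (hF : Fintype.card F = 2 ^ (2 * m + 1)) : Witness (Cfsg.Sz F m) := by
  haveI : Fact (Nat.Prime 2) := ⟨Nat.prime_two⟩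
  have hcard := nat_card hF hm
  have hq8 := two_lt_card hF hm
  have hk : (Nat.card (Cfsg.Sz F m)).factorization 2 = 2 * (2 * m + 1) := by
    refine factorization_two (z := 1) odd_one (o := (Fintype.card F ^ 2 + 1) * (Fintype.card F - 1))
      ((odd_sq_add_one hF).mul (odd_card_sub_one hF)) ?_
    rw [mul_one, hcard, hF, mul_assoc, ← pow_mul, mul_comm (2 * m + 1) 2]
  obtain ⟨p, a, hp, hp2, hpr, hdvd, ha⟩ := exists_prim (show 1 ≤ 2 * (2 * m + 1) by omega)
  obtain rfl := ha (by omega)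
  rw [zero_add, pow_one] at hpr hdvd
  haveI := Fact.mk hp
  have hdq : p ∣ Fintype.card F ^ 2 + 1 := by
    rw [hF, ← pow_mul, mul_comm]
    exact hdvd
  obtain ⟨g, hg⟩ := exists_prime_orderOf_dvd_card' (G := Cfsg.Sz F m) p (by
    rw [hcard]; exact dvd_mul_of_dvd_left (dvd_mul_of_dvd_right hdq _) _)
  have hfree := free_of_prime hF hm hdq hg
  have hCodd : Odd (Nat.card (Subgroup.centralizer ({g} : Set (Cfsg.Sz F m)))) :=
    (odd_sq_add_one hF).of_dvd_nat (free_card_dvd hF hm hfree)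
  have hg4 : g ^ 4 ≠ 1 := fun e => by
    have h1 : p ∣ 2 ^ 2 := hg ▸ orderOf_dvd_of_pow_eq_one e
    exact hp2 ((Nat.prime_dvd_prime_iff_eq hp Nat.prime_two).1 (hp.dvd_of_dvd_pow h1))
  obtain ⟨c, hc⟩ := isConj_iff.1 (real_ss hF hm hg4)
  obtain ⟨e, o, ho, hco⟩ := Nat.exists_eq_pow_mul_and_not_dvd (orderOf_pos c).ne' 2 (by norm_num)
  obtain ⟨i, hi⟩ : Odd o := Nat.odd_iff.2 (by omega)
  have hinv : ∀ i : ℕ, c ^ (2 * i + 1) * g * (c ^ (2 * i + 1))⁻¹ = g⁻¹ := by
    intro i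
    induction i with
    | zero => simpa using hc
    | succ i ih =>
      rw [show 2 * (i + 1) + 1 = 1 + (1 + (2 * i + 1)) by ring, pow_add c 1, pow_add c 1, pow_one,
        show c * (c * c ^ (2 * i + 1)) * g * (c * (c * c ^ (2 * i + 1)))⁻¹ =
          c * (c * (c ^ (2 * i + 1) * g * (c ^ (2 * i + 1))⁻¹) * c⁻¹) * c⁻¹ by group, ih, ← conj_inv, hc, inv_inv, hc]
  set s := c ^ o
  have hsg : s * g * s⁻¹ = g⁻¹ := by
    show c ^ o * g * (c ^ o)⁻¹ = g⁻¹
    rw [hi]; exact hinv i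
  have hgg : g * g ≠ 1 := fun e => hg4 (by
    calc g ^ 4 = (g * g) * (g * g) := by rw [pow_succ, pow_succ, pow_two, mul_assoc (g * g)]
      _ = 1 := by rw [e, one_mul])
  have hs : s * s = 1 := by
    have hmem : s * s ∈ Subgroup.centralizer ({g} : Set (Cfsg.Sz F m)) := by
      refine Subgroup.mem_centralizer_singleton_iff.2 (mul_inv_eq_iff_eq_mul.1 ?_)
      rw [show s * s * g * (s * s)⁻¹ = s * (s * g * s⁻¹) * s⁻¹ by group, hsg, ← conj_inv, hsg, inv_inv]
    have h2 : orderOf (s * s) ∣ 2 ^ e := by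
      refine orderOf_dvd_of_pow_eq_one ?_
      rw [← pow_two, ← pow_mul, ← pow_mul, show o * (2 * 2 ^ e) = 2 ^ e * o * 2 by ring, pow_mul, ← hco,
        pow_orderOf_eq_one, one_pow]
    exact orderOf_eq_one_iff.1 (Nat.eq_one_of_dvd_coprimes (hCodd.coprime_two_left.pow_left e) h2
      (Subgroup.orderOf_dvd_natCard _ hmem))
  obtain ⟨h1, h2, h3, h4⟩ := pair_of_inverted hs hgg hsg
  exact ⟨2 * (2 * m + 1), 2 * (2 * m + 1), hk,
    ⟨p, 0, hp, hp2, by rwa [zero_add, pow_one], g, by rw [zero_add, pow_one, hg]⟩,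
    ⟨p, 0, hp, hp2, by rwa [zero_add, pow_one], s, s * g, hs, h1, h2, h3, by rw [h4, zero_add, pow_one, hg]⟩,
    fun E hE => hk ▸ card_elem_le E hE⟩

end Suzuki

section Unitary

variable {F : Type} [Field F] [Fintype F] [CharP F 2] {q n : ℕ}

/-- The block matrix. -/
def blk (M : Matrix (Fin 2) (Fin 2) F) : Matrix (Fin 3) (Fin 3) F :=
  !![M 0 0, M 0 1, 0; M 1 0, M 1 1, 0; 0, 0, 1]

theorem blk_mul (M N : Matrix (Fin 2) (Fin 2) F) : blk (M * N) = blk M * blk N := by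
  ext i j
  fin_cases i <;> fin_cases j <;> simp [blk, Matrix.mul_apply, Fin.sum_univ_three, Fin.sum_univ_two]

/-- The block embedding of dimension two in dimension three. -/
def blockHom : SL(2, F) →* SL(3, F) where
  toFun A := ⟨blk A.1, by
    have h := A.2
    rw [Matrix.det_fin_two] at h
    simp [blk, Matrix.det_fin_three]
    linear_combination h⟩
  map_one' := Subtype.ext (show blk (1 : Matrix (Fin 2) (Fin 2) F) = 1 by
    ext i j; fin_cases i <;> fin_cases j <;> simp [blk])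
  map_mul' A B := Subtype.ext (blk_mul A.1 B.1)

theorem blockHom_val (A : SL(2, F)) : (blockHom A : Matrix (Fin 3) (Fin 3) F) = blk (A : Matrix (Fin 2) (Fin 2) F) :=
  rfl

theorem slToMat_apply {d : ℕ} (A : SL(d, F)) : Cfsg.slToMat d F A = (A : Matrix (Fin d) (Fin d) F) := rfl

/-- The cyclic permutation matrix. -/
def cyc : SL(3, F) := ⟨!![0, 1, 0; 0, 0, 1; 1, 0, 0], by simp [Matrix.det_fin_three]⟩

theorem cyc_val : ((cyc : SL(3, F)) : Matrix (Fin 3) (Fin 3) F) = !![0, 1, 0; 0, 0, 1; 1, 0, 0] := rfl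

theorem blockHom_mem (hq0 : q ≠ 0) {A : SL(2, F)} (hA : A ∈ Cfsg.SU 2 F q) : blockHom A ∈ Cfsg.SU 3 F q := by
  intro u v
  have h := hA ![u 0, u 1] ![v 0, v 1]
  rw [slToMat_apply] at h ⊢
  rw [blockHom_val]
  simp [Cfsg.hermForm, blk, Matrix.mulVec, dotProduct, Fin.sum_univ_two, Fin.sum_univ_three] at h ⊢
  linear_combination h

theorem cyc_mem : (cyc : SL(3, F)) ∈ Cfsg.SU 3 F q := by
  intro u v
  rw [slToMat_apply, cyc_val]
  simp [Cfsg.hermForm, Matrix.mulVec, dotProduct, Fin.sum_univ_three]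
  ring

theorem witness_psu (hn : 2 ≤ n) (hq : q = 2 ^ n) (hF : Fintype.card F = q ^ 2) : Witness (Cfsg.PSU 3 F q) := by
  haveI : Fact (Nat.Prime 2) := ⟨Nat.prime_two⟩
  have h4 : 4 ≤ q := hq ▸ le_trans (by norm_num) (Nat.pow_le_pow_right two_pos hn)
  have hq2 : 2 ∣ q := hq ▸ dvd_pow_self 2 (by omega)
  -- the order
  have hcard := CfsgLib.Classical.Herm.card_PSU hF 3 (by norm_num)
  simp only [Finset.prod_range_succ, Finset.prod_range_zero, one_mul] at hcard
  norm_num [-Nat.card_eq_fintype_card] at hcard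
  have hz : Odd (Nat.gcd 3 (q + 1) * (q + 1)) :=
    (Odd.of_dvd_nat (by decide : Odd 3) (Nat.gcd_dvd_left _ _)).mul (Nat.odd_iff.2 (by omega))
  have hk : (Nat.card (Cfsg.PSU 3 F q)).factorization 2 = 3 * n := by
    refine factorization_two hz (o := (q + 1) * (q ^ 2 - 1) * (q ^ 3 + 1)) ?_ ?_
    · refine ((Nat.odd_iff.2 (by omega)).mul (Nat.odd_iff.2 ?_)).mul (Nat.odd_iff.2 ?_)
      · have h2 : 2 ∣ q ^ 2 := dvd_pow hq2 two_ne_zero
        have : 4 ≤ q ^ 2 := le_trans h4 (Nat.le_self_pow two_ne_zero _)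
        omega
      · have h2 : 2 ∣ q ^ 3 := dvd_pow hq2 three_ne_zero
        omega
    · rw [show 2 ^ (3 * n) = q ^ 3 by rw [hq, ← pow_mul, mul_comm], ← hcard]
      ring
  -- the large element
  obtain ⟨p, a, hp, hp2, hpr, hdvd, ha⟩ := exists_prim (show 1 ≤ 3 * n by omega)
  obtain rfl := ha (by omega)
  rw [zero_add, pow_one] at hdvd
  have hpr' : ∀ j : ℕ, 0 < j → j < 2 * (3 * n) → ¬ p ∣ 2 ^ j - 1 := fun j h h' => by
    simpa using hpr j h h'
  haveI := Fact.mk hp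
  have hpq : ¬ p ∣ q + 1 := fun hd => hpr' (2 * n) (by omega) (by omega) (by
    rw [show 2 ^ (2 * n) - 1 = (2 ^ n + 1) * (2 ^ n - 1) by rw [← Nat.sq_sub_sq, one_pow, ← pow_mul, mul_comm]]
    exact dvd_mul_of_dvd_left (hq ▸ hd) _)
  have hpd : p ∣ Nat.card (Cfsg.PSU 3 F q) := by
    have h1 : p ∣ Nat.gcd 3 (q + 1) * ((q + 1) * Nat.card (Cfsg.PSU 3 F q)) := by
      rw [hcard]
      refine dvd_mul_of_dvd_right (dvd_mul_of_dvd_right ?_ _) _
      rw [hq, ← pow_mul, mul_comm]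
      exact hdvd
    exact ((hp.dvd_mul.1 ((hp.dvd_mul.1 h1).resolve_left fun h => hpq (h.trans (Nat.gcd_dvd_right _ _)))).resolve_left hpq)
  obtain ⟨x, hx⟩ := exists_prime_orderOf_dvd_card' p hpd
  -- the inverted element
  haveI : Fintype (GaloisField 2 n) := Fintype.ofFinite _
  have hK : Fintype.card (GaloisField 2 n) = 2 ^ n := by
    rw [← Nat.card_eq_fintype_card, GaloisField.card 2 n (by omega)]
  obtain ⟨e⟩ := CfsgLib.Classical.Herm.nonempty_su_two_equiv (K := GaloisField 2 n) hF (by rw [hK, hq])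
  obtain ⟨ep⟩ := CfsgLib.Recog.AffineTwo.psl_equiv_sl (GaloisField 2 n)
  let f : Cfsg.SU 2 F q →* Cfsg.PSU 3 F q :=
    (QuotientGroup.mk' _).comp ((blockHom.comp (Cfsg.SU 2 F q).subtype).codRestrict (Cfsg.SU 3 F q)
      fun A => blockHom_mem (by omega) A.2)
  have hf : Function.Injective f := by
    rw [injective_iff_map_eq_one]
    intro A hA
    have hc := Subgroup.mem_center_iff.1 ((QuotientGroup.eq_one_iff _).1 hA) ⟨cyc, cyc_mem⟩
    have hc' := congrArg (fun g : Cfsg.SU 3 F q => ((g : SL(3, F)) : Matrix (Fin 3) (Fin 3) F)) hc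
    have h01 := congrFun (congrFun hc' 0) 0
    have h11 := congrFun (congrFun hc' 0) 1
    have h12 := congrFun (congrFun hc' 0) 2
    have h20 := congrFun (congrFun hc' 1) 0
    have h21 := congrFun (congrFun hc' 1) 1
    have h22 := congrFun (congrFun hc' 1) 2
    simp [cyc_val, blockHom_val, blk, Matrix.mul_apply, Fin.sum_univ_three] at h01 h11 h12 h20 h21 h22
    refine Subtype.ext (Subtype.ext ?_)
    ext i j
    fin_cases i <;> fin_cases j <;> simp_all
  obtain ⟨p₂, a₂, hp₂, hp2₂, hpr₂, s₂, t₂, hs₂, ht₂, hs1₂, ht1₂, hst₂⟩ :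
      HasInv (Cfsg.SU 2 F q) (2 * n) := by
    obtain ⟨p₀, a₀, hp₀, hp2₀, hpr₀, hdvd₀, -⟩ := exists_prim (show 1 ≤ n by omega)
    have hg2 : Nat.gcd 2 (2 ^ n - 1) = 1 :=
      (Nat.prime_two.coprime_iff_not_dvd.2 (by rw [← hq]; omega)).gcd_eq_one
    obtain ⟨D, -, -, g, w, -, -, hgord, hw, hwg, -⟩ := CfsgLib.Classical.Dickson.exists_dihedral
      (F := GaloisField 2 n) 2 hK (by rw [← hq]; omega) (le_trans hp₀.two_le (Nat.le_self_pow a₀.succ_ne_zero p₀))
      (Or.inl (by rwa [hg2, Nat.div_one]))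
    have hgg : g * g ≠ 1 := fun e => by
      have h1 : orderOf g ∣ 2 := orderOf_dvd_of_pow_eq_one (by rw [pow_two, e])
      rw [hgord] at h1
      exact hp2₀ ((Nat.prime_dvd_prime_iff_eq hp₀ Nat.prime_two).1 ((dvd_pow_self p₀ a₀.succ_ne_zero).trans h1))
    obtain ⟨h1, h2, h3, h4'⟩ := pair_of_inverted hw hgg hwg
    set φ := (e.trans ep.symm).symm
    exact ⟨p₀, a₀, hp₀, hp2₀, hpr₀, φ w, φ (w * g), by rw [← map_mul, hw, map_one], by rw [← map_mul, h1, map_one],
      fun h => h2 (φ.injective (by rw [h, map_one])), fun h => h3 (φ.injective (by rw [h, map_one])),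
      by rw [← map_mul, MulEquiv.orderOf_eq, h4', hgord]⟩
  refine ⟨3 * n, n, hk, ⟨p, 0, hp, hp2, fun j h h' => by rw [zero_add, pow_one]; exact hpr' j h h', x, by rw [zero_add, pow_one, hx]⟩,
    ⟨p₂, a₂, hp₂, hp2₂, hpr₂, f s₂, f t₂, by rw [← map_mul, hs₂, map_one], by rw [← map_mul, ht₂, map_one],
      fun h => hs1₂ (hf (by rw [h, map_one])), fun h => ht1₂ (hf (by rw [h, map_one])),
      by rwa [← map_mul, orderOf_injective f hf]⟩,
    fun E hE => hq ▸ U3.card_elementary_le hF hq E hE⟩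

end Unitary

end CfsgLib.SEModule
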