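import Cfsg.Agent.Lib.SEModule.RankOne
import Cfsg.Agent.Lib.SEModule.Models
import Cfsg.Agent.Lib.Bender.Gen.Structure

/-!
Owner: helper18 (S3841). Faithful modules over two elements of a group with a strongly embedded subgroup,
from the general Bender theorem.
-/

set_option autoImplicit false
set_option linter.style.haveILetI false
set_option linter.unusedSectionVars false

namespace CfsgLib.SEModule

open Subgroup MulAction Module CfsgLib.Bender

universe u v

theorem witness_of_family {L : Type u} [Group L] (h : RankOneFamily L) : Witness L := by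
  rcases h with ⟨F, iF, iFt, hF2, h4, ⟨e⟩⟩ | ⟨F, iF, iFt, q, hq2, hq4, hF, ⟨e⟩⟩ | ⟨F, iF, iFt, m, hm, hF, ⟨e⟩⟩
  · obtain ⟨n, -, hn⟩ := FiniteField.card F 2
    obtain ⟨ep⟩ := CfsgLib.Recog.AffineTwo.psl_equiv_sl F
    refine Witness.of_equiv (e.trans ep.symm) (witness_psl (n := n) ?_ hn)
    by_contra h
    have h1 : (n : ℕ) = 1 := by have := n.pos; omega
    rw [hn, h1] at h4
    omega
  · obtain ⟨r, hr⟩ := CharP.exists F
    obtain ⟨k', hrp, hk⟩ := FiniteField.card F r
    have hqd : q ∣ r ^ (k' : ℕ) := ⟨q, by rw [← hk, hF, pow_two]⟩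
    obtain ⟨n, -, hqn⟩ := (Nat.dvd_prime_pow hrp).1 hqd
    have hr2 : r = 2 := by
      refine ((Nat.prime_dvd_prime_iff_eq Nat.prime_two hrp).1 (Nat.prime_two.dvd_of_dvd_pow (n := n) ?_)).symm
      exact hqn ▸ even_iff_two_dvd.1 hq2
    subst hr2
    refine Witness.of_equiv e (witness_psu (n := n) ?_ hqn hF)
    by_contra h
    have h1 : 2 ^ n ≤ 2 ^ 1 := Nat.pow_le_pow_right two_pos (by omega)
    rw [← hqn] at h1
    omega
  · haveI : CharP F 2 := by
      haveI : Fact (Nat.Prime 2) := ⟨Nat.prime_two⟩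
      exact charP_of_card_eq_prime_pow (f := 2 * m + 1) hF
    exact Witness.of_equiv (e.trans (CfsgLib.Lie.Suzuki.equivLie hm hF).symm) (witness_suzuki hm hF)

/-- S3841 from the general Bender theorem. -/
theorem main (hB : BenderGen.{u}) {G : Type u} [Group G] [Finite G] (H : Subgroup G) (hH : Cfsg.IsStronglyEmbedded H)
    (S : Sylow 2 G) {V : Type v} [AddCommGroup V] [Module (ZMod 2) V] [Module.Finite (ZMod 2) V]
    (ρ : Representation (ZMod 2) G V) (hρ : Function.Injective ρ) :
    (∀ k : ℕ, Nat.card ↥(S : Subgroup G) = 2 ^ k → 2 * k ≤ Module.finrank (ZMod 2) V) ∧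
      ∀ n : ℕ, (∀ z ∈ (S : Subgroup G) ⊓ Subgroup.centralizer ((S : Subgroup G) : Set G), z ^ 2 = 1) →
        Nat.card ↥((S : Subgroup G) ⊓ Subgroup.centralizer ((S : Subgroup G) : Set G)) = 2 ^ n →
        ∀ s ∈ (S : Subgroup G), s ≠ 1 → n ≤ Module.finrank (ZMod 2) ↥(LinearMap.range (ρ s - 1)) := by
  classical
  haveI : Fact (Nat.Prime 2) := ⟨Nat.prime_two⟩
  obtain ⟨t, htH, ht⟩ := CfsgLib.Signalizer.exists_involution_of_even hH.2.1
  by_cases hr : RankOne G
  · -- one involution
    have hzp : IsPGroup 2 (zpowers t) := IsPGroup.of_card (n := 1) (by rw [Nat.card_zpowers, ht, pow_one])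
    obtain ⟨P, hP⟩ := hzp.exists_le_sylow
    obtain ⟨c, hc⟩ := MulAction.exists_smul_eq G P S
    set z := c * t * c⁻¹
    have hzS : z ∈ (S : Subgroup G) := by
      rw [← hc, Sylow.coe_subgroup_smul]
      exact ⟨t, hP (mem_zpowers t), rfl⟩
    have hz : orderOf z = 2 := (MulEquiv.orderOf_eq (MulAut.conj c) t).trans ht
    have huniq : ∀ s ∈ (S : Subgroup G), orderOf s = 2 → s = z := fun s hs hs2 => hr.unique S.isPGroup' hs hzS hs2 hz
    constructor
    · intro k hk
      refine rankOne_finrank hρ S.isPGroup' (CfsgLib.ZStar.odd_card_oddCore G)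
        (normalizer_eq_top (H := Cfsg.oddCore G) ▸ le_top) hzS hz huniq ?_ (hr.sylow_shape S) hk
      by_contra hne
      push Not at hne
      -- the involution would be central
      have hcentral : ∀ g : G, g * z = z * g := fun g => by
        have h := CfsgLib.ZStar.mem_oddCore_of_unique S hz hzS (fun x hx hx2 => huniq x hx hx2) g
        rw [CfsgLib.Signalizer.involution_inv hz, mul_assoc (z * g), mul_assoc z, ← mul_assoc g] at h
        obtain ⟨w, hw, he⟩ := exists_conj_of_mul_mem (CfsgLib.ZStar.odd_card_oddCore G) hz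
          (show orderOf (g * z * g⁻¹) = 2 by rw [CfsgLib.Signalizer.orderOf_conj]; exact hz) h
        rw [hne w hw, mul_inv_cancel_right] at he
        exact mul_inv_eq_iff_eq_mul.1 he.symm
      obtain ⟨x, hx⟩ := CfsgLib.TwoGroups.SE.exists_fixed hH hz
      obtain ⟨g, rfl⟩ := MulAction.exists_smul_eq G ((1 : G) : G ⧸ H) x
      have hzH : z ∈ H := by
        have h1 : z • ((1 : G) : G ⧸ H) = ((1 : G) : G ⧸ H) := by
          rw [← mul_smul, ← hcentral g, mul_smul] at hx
          exact smul_left_cancel g hx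
        rwa [← mem_stabilizer_iff, stab_base] at h1
      exact hH.1 (eq_top_iff.2 fun g _ => mem_of_commute_involution hH hz hzH (hcentral g))
    · intro n h2 hn s hs hs1
      show n ≤ rk ρ s
      have h1 : rk ρ s ≠ 0 := fun e => hs1 (rk_eq_zero hρ e)
      have hsub : Nat.card ↥((S : Subgroup G) ⊓ centralizer ((S : Subgroup G) : Set G)) ≤ 2 := by
        haveI := Fintype.ofFinite ↥((S : Subgroup G) ⊓ centralizer ((S : Subgroup G) : Set G))
        rw [Nat.card_eq_fintype_card, ← Finset.card_univ]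
        refine le_trans (Finset.card_le_card_of_injOn (t := ({1, z} : Finset G)) (fun x => (x : G)) (fun x _ => ?_)
          Subtype.val_injective.injOn) Finset.card_le_two
        by_cases hx : (x : G) = 1
        · simp [hx]
        · simp [huniq _ x.2.1 (orderOf_eq_prime (h2 _ x.2) hx)]
      have : n ≤ 1 := by
        rw [hn] at hsub
        exact (Nat.pow_le_pow_iff_right (le_refl 2)).1 (hsub.trans_eq (pow_one 2).symm)
      omega
  -- rank at least two
  have hfour := four_of_not_rankOne hH hr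
  set K := Cfsg.oddCore G with hK
  have hKodd : Odd (Nat.card K) := CfsgLib.ZStar.odd_card_oddCore G
  have hfam := closure_family_quot hB hH hfour K (le_antisymm (oddCore_le_normalCore hH hfour) (normalCore_le_oddCore hH))
  set π := QuotientGroup.mk' K
  set L := Cfsg.pElementClosure 2 (⊤ : Subgroup (G ⧸ K)) with hL
  obtain ⟨k₀, n₀, hk₀, ⟨p, a, hp, hp2, hpr, x, hx⟩, ⟨p', a', hp', hp2', hpr', s', t', hs', ht', hs'1, ht'1, hst⟩, hE⟩ :=
    witness_of_family hfam
  haveI := Fact.mk hp
  haveI := Fact.mk hp'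
  have hmemL : ∀ g ∈ (S : Subgroup G), π g ∈ L := fun g hg => by
    obtain ⟨j, hj⟩ := S.isPGroup' ⟨g, hg⟩
    have hj' : (π g) ^ 2 ^ j = 1 := by
      rw [← map_pow, show g ^ 2 ^ j = 1 from congrArg Subtype.val hj, map_one]
    obtain ⟨i, -, hi⟩ := (Nat.dvd_prime_pow Nat.prime_two).1 (orderOf_dvd_of_pow_eq_one hj')
    exact subset_closure ⟨mem_top _, i, hi⟩
  let f : (S : Subgroup G) →* L := (π.comp (S : Subgroup G).subtype).codRestrict L fun g => hmemL g g.2
  have hf : Function.Injective f := by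
    rw [injective_iff_map_eq_one]
    intro g hg
    have h1 : (g : G) ∈ K := (QuotientGroup.eq_one_iff _).1 (congrArg Subtype.val hg)
    obtain ⟨j, hj⟩ := S.isPGroup' g
    exact orderOf_eq_one_iff.1 (Nat.eq_one_of_dvd_coprimes (Nat.Coprime.pow_left j hKodd.coprime_two_left)
      (orderOf_dvd_of_pow_eq_one hj) (by rw [← Subgroup.orderOf_coe]; exact K.orderOf_dvd_natCard h1))
  constructor
  · intro k hk
    have hkk : k ≤ k₀ := by
      rw [← hk₀]
      refine (Nat.prime_two.pow_dvd_iff_le_factorization Nat.card_pos.ne').1 ?_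
      rw [← hk]
      exact Subgroup.card_dvd_of_injective f hf
    obtain ⟨g, hg⟩ := QuotientGroup.mk'_surjective K (x : G ⧸ K)
    have hd : p ^ (a + 1) ∣ orderOf g := by
      refine hx.trans ?_
      rw [← Subgroup.orderOf_coe, ← hg]
      exact orderOf_map_dvd _ g
    have := le_rk_of_primitive hρ hp2 hd hpr
    have := rk_le_finrank ρ g
    omega
  · intro n h2 hn s hs hs1
    set Z := (S : Subgroup G) ⊓ centralizer ((S : Subgroup G) : Set G)
    have hnn : n ≤ n₀ := by
      have h1 := hE ((Z.subgroupOf (S : Subgroup G)).map f) (by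
        rintro _ ⟨y, hy, rfl⟩
        rw [← map_mul, ← pow_two, show y ^ 2 = 1 from Subtype.ext (h2 _ (mem_subgroupOf.1 hy)), map_one])
      rw [Subgroup.card_map_of_injective hf, Nat.card_congr (subgroupOfEquivOfLe inf_le_left).toEquiv, hn] at h1
      exact (Nat.pow_le_pow_iff_right (le_refl 2)).1 h1
    -- lift the two involutions
    have hliftinv : ∀ y : L, y * y = 1 → y ≠ 1 → ∃ g : G, orderOf g = 2 ∧ π g = y := by
      intro y hy hy1
      obtain ⟨g, hg⟩ := QuotientGroup.mk'_surjective K (y : G ⧸ K)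
      obtain ⟨g', hg', hgg', -⟩ := exists_involution_lift hKodd (x := g) ((QuotientGroup.eq_one_iff _).1 (by
          show QuotientGroup.mk' K (g * g) = 1
          rw [map_mul, hg, ← Subgroup.coe_mul, hy, Subgroup.coe_one]))
        (fun h => hy1 (Subtype.ext (hg ▸ (QuotientGroup.eq_one_iff g).2 h)))
      refine ⟨g', hg', ?_⟩
      rw [← hg]
      exact (QuotientGroup.eq.2 hgg').symm
    obtain ⟨g₁, hg₁, hg₁'⟩ := hliftinv s' hs' hs'1
    obtain ⟨g₂, hg₂, hg₂'⟩ := hliftinv t' ht' ht'1
    have hd : p' ^ (a' + 1) ∣ orderOf (g₁ * g₂) := by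
      refine hst.trans ?_
      rw [← Subgroup.orderOf_coe, Subgroup.coe_mul, ← hg₁', ← hg₂', ← map_mul]
      exact orderOf_map_dvd _ _
    have h3 := le_rk_of_primitive hρ hp2' hd hpr'
    have h4 := rk_mul_le ρ g₁ g₂
    have hinv : ∀ g g' : G, orderOf g = 2 → orderOf g' = 2 → rk ρ g = rk ρ g' := by
      intro g g' hg hg'
      obtain ⟨c, hc⟩ := isConj_iff.1 (CfsgLib.TwoGroups.SE.isConj_involutions hH hg hg')
      rw [← hc, rk_conj]
    obtain ⟨i, hi⟩ := S.isPGroup' ⟨s, hs⟩
    obtain ⟨j, -, hj⟩ := (Nat.dvd_prime_pow Nat.prime_two).1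
      (orderOf_dvd_of_pow_eq_one (congrArg Subtype.val hi : s ^ 2 ^ i = 1))
    have hj0 : j ≠ 0 := fun e => hs1 (orderOf_eq_one_iff.1 (by rw [hj, e, pow_zero]))
    obtain ⟨j, rfl⟩ := Nat.exists_eq_succ_of_ne_zero hj0
    have hw : orderOf (s ^ 2 ^ j) = 2 := by
      rw [orderOf_pow' _ (by positivity), hj, Nat.gcd_eq_right (pow_dvd_pow 2 (Nat.le_succ j)),
        Nat.pow_div (Nat.le_succ j) two_pos, Nat.succ_sub le_rfl, Nat.sub_self, pow_one]
    have h5 := rk_pow_le ρ s (2 ^ j)
    rw [hinv _ _ hg₁ hw, hinv _ _ hg₂ hw] at h4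
    show n ≤ rk ρ s
    omega

end CfsgLib.SEModule
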