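import Cfsg.Agent.Lib.SEModule.Linear
import Cfsg.Agent.Lib.Core.Basic

/-!
Owner: helper18 (S3841). A 2-group with one involution, inverting an elementary abelian `p`-group
(`p ≡ 3 mod 4`) it normalises, has a faithful module of dimension at least its order.
-/

set_option autoImplicit false
set_option linter.style.haveILetI false
set_option linter.unusedSectionVars false

namespace CfsgLib.SEModule

open LinearMap Module Subgroup
open scoped Pointwise

variable {G : Type*} [Group G] [Finite G] {V : Type*} [AddCommGroup V] [Module (ZMod 2) V]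
  [Module.Finite (ZMod 2) V] (ρ : Representation (ZMod 2) G V)

/-- The fixed space of a subgroup. -/
noncomputable def fixS (W : Subgroup G) : Submodule (ZMod 2) V :=
  ⨅ w : W, LinearMap.ker (ρ (w : G) - 1)

theorem mem_fixS {W : Subgroup G} {v : V} : v ∈ fixS ρ W ↔ ∀ w ∈ W, ρ w v = v := by
  simp [fixS, Submodule.mem_iInf, LinearMap.mem_ker, sub_eq_zero]

theorem fixS_anti {W W' : Subgroup G} (h : W ≤ W') : fixS ρ W' ≤ fixS ρ W :=
  fun _ hv => (mem_fixS ρ).2 fun w hw => (mem_fixS ρ).1 hv w (h hw)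

theorem fixed_closure {S : Set G} {v : V} (h : ∀ w ∈ S, ρ w v = v) : v ∈ fixS ρ (closure S) := by
  refine (mem_fixS ρ).2 fun w hw => ?_
  induction hw using Subgroup.closure_induction with
  | mem x hx => exact h x hx
  | one => simp
  | mul x y _ _ hx hy => rw [map_mul, Module.End.mul_apply, hy, hx]
  | inv x _ hx =>
    conv_lhs => rw [← hx]
    rw [← Module.End.mul_apply, ← map_mul, inv_mul_cancel, map_one, Module.End.one_apply]

/-- The sum of the elements of a subgroup. -/
noncomputable def avg (W : Subgroup G) : Module.End (ZMod 2) V :=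
  letI := Fintype.ofFinite W
  ∑ w : W, ρ (w : G)

theorem avg_apply [Fintype G] {W : Subgroup G} [Fintype W] (v : V) : avg ρ W v = ∑ w : W, ρ (w : G) v := by
  simp only [avg, LinearMap.sum_apply]
  exact Finset.sum_congr (by ext; simp) fun _ _ => rfl

theorem avg_mem (W : Subgroup G) (v : V) : avg ρ W v ∈ fixS ρ W := by
  letI := Fintype.ofFinite G
  letI := Fintype.ofFinite W
  refine (mem_fixS ρ).2 fun g hg => ?_
  rw [avg_apply, map_sum]
  exact Fintype.sum_equiv (Equiv.mulLeft (⟨g, hg⟩ : W)) _ _ fun w => by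
    rw [← Module.End.mul_apply, ← map_mul]; rfl

theorem avg_of_mem {W : Subgroup G} (hW : Odd (Nat.card W)) {v : V} (hv : v ∈ fixS ρ W) : avg ρ W v = v := by
  letI := Fintype.ofFinite G
  letI := Fintype.ofFinite W
  rw [avg_apply, Finset.sum_congr rfl (fun (w : W) _ => (mem_fixS ρ).1 hv (w : G) w.2), Finset.sum_const, Finset.card_univ,
    ← Nat.card_eq_fintype_card]
  obtain ⟨n, hn⟩ := hW
  rw [hn, add_smul, one_smul, mul_comm, mul_smul, two_nsmul, add_self_zero, smul_zero, zero_add]

theorem avg_commute {W : Subgroup G} {g : G} (h : ∀ w ∈ W, g * w = w * g) (v : V) :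
    avg ρ W (ρ g v) = ρ g (avg ρ W v) := by
  letI := Fintype.ofFinite G
  letI := Fintype.ofFinite W
  rw [avg_apply, avg_apply, map_sum]
  exact Finset.sum_congr rfl fun w _ => by
    rw [← Module.End.mul_apply, ← map_mul, ← Module.End.mul_apply, ← map_mul, h w w.2]

theorem fixS_avg_commute {U W : Subgroup G} (hWU : W ≤ U) (hcomm : ∀ x ∈ U, ∀ y ∈ U, x * y = y * x)
    {W' : Subgroup G} (hW'U : W' ≤ U) {v : V} (hv : v ∈ fixS ρ W) : avg ρ W' v ∈ fixS ρ W :=
  (mem_fixS ρ).2 fun w hw => by
    rw [← avg_commute ρ (fun w' hw' => hcomm w (hWU hw) w' (hW'U hw')) v, (mem_fixS ρ).1 hv w hw]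

section Elem

variable {p : ℕ} [hp : Fact p.Prime] {U : Subgroup G}
variable (hcomm : ∀ x ∈ U, ∀ y ∈ U, x * y = y * x) (hexp : ∀ x ∈ U, x ^ p = 1)

include hcomm hexp

theorem card_sup_zpowers {W : Subgroup G} (hWU : W ≤ U) {u : G} (hu : u ∈ U) (huW : u ∉ W) :
    Nat.card (W ⊔ zpowers u : Subgroup G) = Nat.card W * p := by
  have hn : zpowers u ≤ normalizer (W : Set G) := by
    refine zpowers_le.2 (mem_normalizer_iff.2 fun x => ?_)
    constructor
    · intro hx
      rwa [hcomm u hu x (hWU hx), mul_inv_cancel_right]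
    · intro hx
      have h := hcomm u hu _ (hWU hx)
      have hx' : u⁻¹ * (u * x * u⁻¹) * u = u * x * u⁻¹ := by rw [mul_assoc, ← h, inv_mul_cancel_left]
      rw [show x = u⁻¹ * (u * x * u⁻¹) * u by group, hx']
      exact hx
  have hord : orderOf u = p := orderOf_eq_prime (hexp u hu) fun e => huW (e ▸ one_mem W)
  have hinf : W ⊓ zpowers u = ⊥ := by
    refine (Subgroup.eq_bot_iff_forall _).2 fun x hx => ?_
    by_contra hx1
    obtain ⟨k, hk⟩ := mem_powers_iff_mem_zpowers.2 hx.2
    replace hk : u ^ k = x := hk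
    have hcop : k.Coprime (orderOf u) := by
      rw [hord]
      refine ((hp.out.coprime_iff_not_dvd).2 fun hd => hx1 ?_).symm
      rw [← hk]
      exact orderOf_dvd_iff_pow_eq_one.1 (hord ▸ hd)
    obtain ⟨n, hn⟩ := exists_pow_eq_self_of_coprime hcop
    exact huW (hn ▸ pow_mem (hk ▸ hx.1) n)
  have h := CfsgLib.Core.card_sup_mul_card_inf (zpowers u) W hn
  rw [inf_comm, hinf, Subgroup.card_bot, mul_one, Nat.card_zpowers, hord, sup_comm] at h
  rw [h, mul_comm]

theorem exists_hyperplane (hρ : Function.Injective ρ) (hp2 : p ≠ 2) (hU : U ≠ ⊥) :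
    ∃ W ≤ U, Nat.card U = Nat.card W * p ∧ ¬ fixS ρ W ≤ fixS ρ U := by
  classical
  have hbot : ¬ fixS ρ (⊥ : Subgroup G) ≤ fixS ρ U := by
    intro h
    refine hU ((Subgroup.eq_bot_iff_forall _).2 fun x hx => hρ (LinearMap.ext fun v => ?_))
    rw [map_one, Module.End.one_apply]
    exact (mem_fixS ρ).1 (h ((mem_fixS ρ).2 fun w hw => by rw [mem_bot.1 hw, map_one, Module.End.one_apply])) x hx
  obtain ⟨W, ⟨hWU, hWfix⟩, hmax⟩ := Set.Finite.exists_maximalFor id {W : Subgroup G | W ≤ U ∧ ¬ fixS ρ W ≤ fixS ρ U}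
    (Set.toFinite _) ⟨⊥, bot_le, hbot⟩
  refine ⟨W, hWU, ?_, hWfix⟩
  have hne : W ≠ U := fun h => hWfix (h ▸ le_rfl)
  obtain ⟨u, huU, huW⟩ := SetLike.exists_of_lt (lt_of_le_of_ne hWU hne)
  have hle1 : W ⊔ zpowers u ≤ U := sup_le hWU (zpowers_le.2 huU)
  by_contra hcard
  have hne1 : W ⊔ zpowers u ≠ U := fun h => hcard (by rw [← h, card_sup_zpowers hcomm hexp hWU huU huW])
  obtain ⟨u', hu'U, hu'1⟩ := SetLike.exists_of_lt (lt_of_le_of_ne hle1 hne1)
  -- a proper overgroup has no more fixed points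
  have hkey : ∀ a ∈ U, a ∉ W → fixS ρ (W ⊔ zpowers a) ≤ fixS ρ U := by
    intro a haU haW
    by_contra h
    have hle : W ⊔ zpowers a ≤ W := hmax (j := W ⊔ zpowers a) ⟨sup_le hWU (zpowers_le.2 haU), h⟩ le_sup_left
    exact haW (hle (mem_sup_right (mem_zpowers a)))
  refine hWfix fun v hv => ?_
  have hvW := (mem_fixS ρ).1 hv
  let cyc : G → V := fun a => ∑ i : ZMod p, ρ (a ^ i.val) v
  have hcyc : ∀ a ∈ U, a ∉ W → cyc a ∈ fixS ρ U := by
    intro a haU haW
    refine hkey a haU haW ?_
    rw [sup_eq_closure]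
    refine fixed_closure ρ fun w hw => ?_
    rcases hw with hw | hw
    · rw [map_sum]
      refine Finset.sum_congr rfl fun i _ => ?_
      rw [← Module.End.mul_apply, ← map_mul, hcomm w (hWU hw) _ (pow_mem haU _), map_mul, Module.End.mul_apply,
        hvW w hw]
    · obtain ⟨k, hk⟩ := mem_powers_iff_mem_zpowers.2 (SetLike.mem_coe.1 hw)
      replace hk : a ^ k = w := hk
      rw [map_sum, ← hk]
      refine Fintype.sum_equiv (Equiv.addLeft (k : ZMod p)) _ _ fun i => ?_
      rw [← Module.End.mul_apply, ← map_mul, ← pow_add, Equiv.coe_addLeft, ZMod.val_add, ZMod.val_natCast,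
        ← pow_mod_orderOf, ← pow_mod_orderOf (n := (k % p + i.val) % p)]
      have hd : orderOf a ∣ p := orderOf_dvd_of_pow_eq_one (hexp a haU)
      rw [Nat.mod_mod_of_dvd _ hd, Nat.add_mod (k % p), Nat.mod_mod_of_dvd _ hd, ← Nat.add_mod]
  have hu'W : u' ∉ W := fun h => hu'1 (mem_sup_left h)
  have hj : ∀ j : ZMod p, u * u' ^ j.val ∉ W := by
    intro j h
    by_cases hj0 : j = 0
    · rw [hj0, ZMod.val_zero, pow_zero, mul_one] at h; exact huW h
    · have h1 : u' ^ j.val ∈ W ⊔ zpowers u := by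
        have := mul_mem (inv_mem (mem_sup_right (S := W) (mem_zpowers u))) (mem_sup_left (T := zpowers u) h)
        rwa [inv_mul_cancel_left] at this
      have hord : orderOf u' = p := orderOf_eq_prime (hexp u' hu'U) fun e => hu'W (e ▸ one_mem W)
      have hcop : j.val.Coprime (orderOf u') := by
        rw [hord]
        refine ((hp.out.coprime_iff_not_dvd).2 fun hd => hj0 ?_).symm
        exact (ZMod.val_eq_zero j).1 (Nat.eq_zero_of_dvd_of_lt hd j.val_lt)
      obtain ⟨n, hn⟩ := exists_pow_eq_self_of_coprime hcop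
      exact hu'1 (hn ▸ pow_mem h1 n)
  -- the counting identity
  let D : V := ∑ i : ZMod p, ∑ j : ZMod p, ρ (u ^ i.val * u' ^ j.val) v
  have hD : D ∈ fixS ρ U := by
    have e : D = ∑ j : ZMod p, ρ (u' ^ j.val) (cyc u) := by
      show ∑ i : ZMod p, ∑ j : ZMod p, ρ (u ^ i.val * u' ^ j.val) v = _
      rw [Finset.sum_comm]
      refine Finset.sum_congr rfl fun j _ => ?_
      rw [map_sum]
      refine Finset.sum_congr rfl fun i _ => ?_
      rw [hcomm _ (pow_mem huU _) _ (pow_mem hu'U _), map_mul, Module.End.mul_apply]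
    rw [e]
    refine sum_mem fun j _ => ?_
    rw [(mem_fixS ρ).1 (hcyc u huU huW) _ (pow_mem hu'U _)]
    exact hcyc u huU huW
  have hident : (∑ j : ZMod p, cyc (u * u' ^ j.val)) + cyc u' = p • v + D := by
    have e1 : (∑ j : ZMod p, cyc (u * u' ^ j.val)) =
        ∑ i : ZMod p, ∑ j : ZMod p, ρ (u ^ i.val * u' ^ (i * j).val) v := by
      show ∑ j : ZMod p, ∑ i : ZMod p, ρ ((u * u' ^ j.val) ^ i.val) v = _
      rw [Finset.sum_comm]
      refine Finset.sum_congr rfl fun i _ => Finset.sum_congr rfl fun j _ => ?_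
      rw [Commute.mul_pow (hcomm u huU _ (pow_mem hu'U _)), ← pow_mul, ZMod.val_mul, mul_comm j.val,
        pow_eq_pow_mod _ (hexp u' hu'U)]
    rw [e1]
    have e0 : (∑ j : ZMod p, ρ (u ^ (0 : ZMod p).val * u' ^ ((0 : ZMod p) * j).val) v) = p • v := by
      simp
    have e0' : (∑ j : ZMod p, ρ (u ^ (0 : ZMod p).val * u' ^ j.val) v) = cyc u' := by
      simp [cyc]
    have e2 : ∀ i ∈ (Finset.univ : Finset (ZMod p)).erase 0,
        ∑ j : ZMod p, ρ (u ^ i.val * u' ^ (i * j).val) v = ∑ j : ZMod p, ρ (u ^ i.val * u' ^ j.val) v :=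
      fun i hi => Fintype.sum_equiv (Equiv.mulLeft₀ i (Finset.ne_of_mem_erase hi)) _ _ fun j => rfl
    have hl := Finset.add_sum_erase Finset.univ (fun i : ZMod p => ∑ j : ZMod p, ρ (u ^ i.val * u' ^ (i * j).val) v)
      (Finset.mem_univ 0)
    have hr := Finset.add_sum_erase Finset.univ (fun i : ZMod p => ∑ j : ZMod p, ρ (u ^ i.val * u' ^ j.val) v)
      (Finset.mem_univ 0)
    rw [← hl, Finset.sum_congr rfl e2, e0]
    show _ = p • v + ∑ i : ZMod p, ∑ j : ZMod p, ρ (u ^ i.val * u' ^ j.val) v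
    rw [← hr, e0']
    abel
  have hodd : p • v = v := by
    obtain ⟨n, hn⟩ := hp.out.odd_of_ne_two hp2
    rw [hn, add_smul, one_smul, mul_comm, mul_smul, two_nsmul, add_self_zero, smul_zero, zero_add]
  rw [hodd] at hident
  have : v = (∑ j : ZMod p, cyc (u * u' ^ j.val)) + cyc u' - D := by rw [hident, add_sub_cancel_right]
  rw [this]
  exact sub_mem (add_mem (sum_mem fun j _ => hcyc _ (mul_mem huU (pow_mem hu'U _)) (hj j)) (hcyc u' hu'U hu'W)) hD

/-- A 2-group with one involution inverting `U`, normalising it, has order at most the dimension. -/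
theorem card_le_finrank (hρ : Function.Injective ρ) (hp4 : p % 4 = 3) (hU : U ≠ ⊥) {S : Subgroup G}
    (hS2 : IsPGroup 2 S) (hSU : S ≤ normalizer (U : Set G)) {z : G} (hzS : z ∈ S) (hz : orderOf z = 2)
    (huniq : ∀ s ∈ S, orderOf s = 2 → s = z) (hinv : ∀ x ∈ U, z * x * z⁻¹ = x⁻¹) :
    Nat.card S ≤ finrank (ZMod 2) V := by
  classical
  letI := Fintype.ofFinite G
  letI := Fintype.ofFinite S
  haveI : Fact (Nat.Prime 2) := ⟨Nat.prime_two⟩
  haveI : Finite V := Module.finite_of_finite (ZMod 2)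
  have hp2 : p ≠ 2 := fun h => by rw [h] at hp4; omega
  have hpU : IsPGroup p U := fun x => ⟨1, Subtype.ext (by rw [pow_one]; exact hexp x x.2)⟩
  have hodd : ∀ W : Subgroup G, W ≤ U → Odd (Nat.card W) := by
    intro W hW
    obtain ⟨n, hn⟩ := (hpU.to_le hW).exists_card_eq
    rw [hn]; exact (hp.out.odd_of_ne_two hp2).pow
  obtain ⟨W₀, hW₀U, hW₀c, hW₀⟩ := exists_hyperplane ρ hcomm hexp hρ hp2 hU
  let cj : G → Subgroup G → Subgroup G := fun s W => W.map (MulAut.conj s).toMonoidHom
  have hmemcj : ∀ (s : G) (W : Subgroup G) (x : G), x ∈ cj s W ↔ s⁻¹ * x * s ∈ W := by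
    intro s W x
    constructor
    · rintro ⟨y, hy, rfl⟩; simpa [mul_assoc] using hy
    · intro h; exact ⟨_, h, by simp [mul_assoc]⟩
  let O : Finset (Subgroup G) := Finset.univ.image fun s : S => cj s W₀
  let X : Subgroup G → Submodule (ZMod 2) V := fun W => fixS ρ W ⊓ LinearMap.ker (avg ρ U)
  have hO : ∀ W ∈ O, W ≤ U ∧ Nat.card U = Nat.card W * p ∧ 2 ≤ finrank (ZMod 2) (X W) := by
    intro W hW
    obtain ⟨⟨s, hs⟩, -, rfl⟩ := Finset.mem_image.1 hW
    have hWU : cj s W₀ ≤ U := by
      intro x hx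
      rw [hmemcj] at hx
      have h := (mem_normalizer_iff.1 (hSU hs) _).1 (hW₀U hx)
      rwa [show s * (s⁻¹ * x * s) * s⁻¹ = x by group] at h
    have hcard : Nat.card U = Nat.card (cj s W₀) * p := by
      rw [hW₀c, Subgroup.card_map_of_injective (MulEquiv.injective _)]
    refine ⟨hWU, hcard, ?_⟩
    -- a nonzero vector
    obtain ⟨v, hv, hvU⟩ := SetLike.not_le_iff_exists.1 hW₀
    set w := ρ s v
    have hw : w ∈ fixS ρ (cj s W₀) := (mem_fixS ρ).2 fun x hx => by
      have h := (mem_fixS ρ).1 hv _ ((hmemcj s W₀ x).1 hx)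
      have h' := congrArg (ρ s) h
      rw [← Module.End.mul_apply, ← map_mul, show s * (s⁻¹ * x * s) = x * s by group, map_mul,
        Module.End.mul_apply] at h'
      exact h'
    have hwU : w ∉ fixS ρ U := fun h => hvU ((mem_fixS ρ).2 fun x hx => by
      have h1 := (mem_fixS ρ).1 h _ ((mem_normalizer_iff.1 (hSU hs) x).1 hx)
      have h' := congrArg (ρ s⁻¹) h1
      rw [← Module.End.mul_apply, ← map_mul, ← Module.End.mul_apply, ← map_mul, ← Module.End.mul_apply, ← map_mul,
        show s⁻¹ * (s * x * s⁻¹) * s = x by group, inv_mul_cancel, map_one, Module.End.one_apply] at h'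
      exact h')
    have hX : w - avg ρ U w ∈ X (cj s W₀) := ⟨sub_mem hw (fixS_anti ρ hWU (avg_mem ρ U w)), by
      rw [SetLike.mem_coe, LinearMap.mem_ker, map_sub, avg_of_mem ρ (hodd U le_rfl) (avg_mem ρ U w), sub_self]⟩
    have hne : w - avg ρ U w ≠ 0 := fun h => hwU (by rw [sub_eq_zero.1 h]; exact avg_mem ρ U w)
    set Y := X (cj s W₀) with hY
    haveI : Nontrivial Y := ⟨⟨⟨_, hX⟩, 0, fun h => hne (congrArg Subtype.val h)⟩⟩
    by_contra hlt
    have h1 : finrank (ZMod 2) Y = 1 := by
      have := Module.finrank_pos (R := ZMod 2) (M := Y)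
      omega
    have h2 : Nat.card Y = 2 := by rw [Module.natCard_eq_pow_finrank (K := ZMod 2), h1, pow_one, Nat.card_zmod]
    obtain ⟨u, huU, huW⟩ := SetLike.exists_of_lt (lt_of_le_of_ne hWU fun h => by
      have := Nat.card_pos (α := U)
      rw [h] at hcard
      exact hp.out.ne_one ((mul_eq_left₀ (by omega)).1 hcard.symm))
    have hmap : ρ u (w - avg ρ U w) ∈ Y := by
      refine ⟨(mem_fixS ρ).2 fun x hx => ?_, ?_⟩
      · rw [← Module.End.mul_apply, ← map_mul, hcomm x (hWU hx) u huU, map_mul, Module.End.mul_apply,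
          (mem_fixS ρ).1 hX.1 x hx]
      · rw [SetLike.mem_coe, LinearMap.mem_ker, avg_commute ρ (fun x hx => hcomm u huU x hx), LinearMap.mem_ker.1 hX.2,
          map_zero]
    have hfix : ρ u (w - avg ρ U w) = w - avg ρ U w := by
      haveI := Fintype.ofFinite Y
      obtain ⟨a, b, -, he⟩ := Nat.card_eq_two_iff.1 h2
      have h0 := (Set.eq_univ_iff_forall.1 he) (0 : Y)
      have ha := (Set.eq_univ_iff_forall.1 he) ⟨_, hmap⟩
      have hb := (Set.eq_univ_iff_forall.1 he) ⟨_, hX⟩
      simp only [Set.mem_insert_iff, Set.mem_singleton_iff] at h0 ha hb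
      have hne' : ρ u (w - avg ρ U w) ≠ 0 := fun h => hne (by
        have h' := congrArg (ρ u⁻¹) h
        rw [← Module.End.mul_apply, ← map_mul, inv_mul_cancel, map_one, Module.End.one_apply, map_zero] at h'
        exact h')
      rcases ha with e | e <;> rcases hb with e' | e'
      · exact congrArg Subtype.val (e.trans e'.symm)
      · rcases h0 with e0 | e0
        · exact absurd (congrArg Subtype.val (e.trans e0.symm)) hne'
        · exact absurd (congrArg Subtype.val (e'.trans e0.symm)) hne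
      · rcases h0 with e0 | e0
        · exact absurd (congrArg Subtype.val (e'.trans e0.symm)) hne
        · exact absurd (congrArg Subtype.val (e.trans e0.symm)) hne'
      · exact congrArg Subtype.val (e.trans e'.symm)
    have hsupU : cj s W₀ ⊔ zpowers u = U := Subgroup.eq_of_le_of_card_ge (sup_le hWU (zpowers_le.2 huU))
      (by rw [card_sup_zpowers hcomm hexp hWU huU huW, hcard])
    have hall : w - avg ρ U w ∈ fixS ρ U := by
      refine fixS_anti ρ hsupU.ge ?_
      rw [sup_eq_closure]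
      refine fixed_closure ρ fun x hx => ?_
      rcases hx with hx | hx
      · exact (mem_fixS ρ).1 hX.1 x hx
      · obtain ⟨k, rfl⟩ := mem_powers_iff_mem_zpowers.2 (SetLike.mem_coe.1 hx)
        induction k with
        | zero => simp
        | succ k ih =>
          show ρ (u ^ (k + 1)) _ = _
          rw [pow_succ, map_mul, Module.End.mul_apply, hfix]
          exact ih (mem_zpowers_iff.2 ⟨k, zpow_natCast u k⟩)
    exact hne ((avg_of_mem ρ (hodd U le_rfl) hall).symm.trans (LinearMap.mem_ker.1 hX.2))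
  -- the spaces are independent
  have hsum : ∑ W ∈ O, finrank (ZMod 2) (X W) ≤ finrank (ZMod 2) V := by
    let Φ : (∀ W : O, X W.1) →ₗ[ZMod 2] V :=
      ∑ W : O, (X W.1).subtype.comp (LinearMap.proj W)
    have hΦ : Function.Injective Φ := by
      rw [← LinearMap.ker_eq_bot, Submodule.eq_bot_iff]
      intro f hf
      funext W
      refine Subtype.ext ?_
      have h := congrArg (avg ρ W.1) (LinearMap.mem_ker.1 hf)
      simp only [Φ, LinearMap.sum_apply, LinearMap.comp_apply, LinearMap.proj_apply, Submodule.subtype_apply,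
        map_sum, map_zero] at h
      rw [Finset.sum_eq_single W] at h
      · rwa [avg_of_mem ρ (hodd _ (hO _ W.2).1) (f W).2.1] at h
      · intro W' _ hne
        obtain ⟨hW'U, hW'c, -⟩ := hO _ W'.2
        obtain ⟨hWU, hWc, -⟩ := hO _ W.2
        have hsup : W'.1 ⊔ W.1 = U := by
          obtain ⟨x, hxW, hxW'⟩ : ∃ x ∈ W.1, x ∉ W'.1 := SetLike.not_le_iff_exists.1 fun h =>
            hne (Subtype.ext (Subgroup.eq_of_le_of_card_ge h (le_of_eq (Nat.eq_of_mul_eq_mul_right hp.out.pos
              (hW'c.symm.trans hWc)))).symm)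
          refine le_antisymm (sup_le hW'U hWU) ?_
          rw [← Subgroup.eq_of_le_of_card_ge (sup_le hW'U (zpowers_le.2 (hWU hxW)))
            (by rw [card_sup_zpowers hcomm hexp hW'U (hWU hxW) hxW', hW'c])]
          exact sup_le le_sup_left (zpowers_le.2 (mem_sup_right hxW))
        have h1 : avg ρ W.1 (f W' : V) ∈ fixS ρ U := by
          rw [← hsup, sup_eq_closure]
          refine fixed_closure ρ fun x hx => ?_
          rcases hx with hx | hx
          · exact (mem_fixS ρ).1 (fixS_avg_commute ρ hW'U hcomm hWU (f W').2.1) x hx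
          · exact (mem_fixS ρ).1 (avg_mem ρ W.1 _) x hx
        rw [← avg_of_mem ρ (hodd U le_rfl) h1]
        have h3 : ∀ y : V, avg ρ U (avg ρ W.1 y) = avg ρ W.1 (avg ρ U y) := by
          intro y
          letI := Fintype.ofFinite U
          letI := Fintype.ofFinite W.1
          rw [avg_apply ρ (W := W.1), map_sum, avg_apply ρ (W := W.1)]
          exact Finset.sum_congr rfl fun x _ => avg_commute ρ (fun c hc => hcomm _ (hWU x.2) _ hc) _
        rw [h3, LinearMap.mem_ker.1 (f W').2.2, map_zero]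
      · exact fun h => absurd (Finset.mem_univ _) h
    have h := LinearMap.finrank_le_finrank_of_injective hΦ
    rwa [Module.finrank_pi_fintype, Finset.sum_coe_sort O fun W => finrank (ZMod 2) (X W)] at h
  -- the orbit is long
  have hcard : Nat.card S ≤ 2 * O.card := by
    rw [Nat.card_eq_fintype_card, ← Finset.card_univ]
    refine Finset.card_le_mul_card_image_of_maps_to (f := fun s : S => cj s W₀)
      (fun s hs => Finset.mem_image_of_mem _ hs) 2 fun W hW => ?_
    by_contra hbig
    obtain ⟨s₀, -, hs₀⟩ := Finset.mem_image.1 hW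
    -- the stabiliser has an element with square `z`
    let T : Subgroup S :=
      { carrier := {s | cj s W₀ = W₀}
        one_mem' := by ext x; simp [hmemcj]
        mul_mem' := fun {a b} ha hb => by
          show cj _ W₀ = W₀
          ext x
          rw [hmemcj]
          conv_rhs => rw [show W₀ = cj a W₀ from ha.symm, hmemcj]
          conv_rhs => rw [show W₀ = cj b W₀ from hb.symm, hmemcj]
          simp [mul_assoc]
        inv_mem' := fun {a} ha => by
          show cj _ W₀ = W₀
          ext x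
          rw [hmemcj]
          conv_lhs => rw [show W₀ = cj a W₀ from ha.symm, hmemcj]
          simp [mul_assoc] }
    have hT : 2 < Nat.card T := by
      refine lt_of_lt_of_le (not_le.1 hbig) ?_
      rw [Nat.card_eq_fintype_card, Fintype.card_subtype]
      refine Finset.card_le_card_of_injOn (fun s => s₀⁻¹ * s) ?_ fun a _ b _ e => mul_left_cancel e
      intro s hs
      simp only [Finset.coe_filter, Finset.mem_univ, true_and, Set.mem_setOf_eq] at hs ⊢
      show cj _ W₀ = W₀
      ext x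
      rw [hmemcj]
      have h1 := SetLike.ext_iff.1 (hs.trans hs₀.symm) ((s₀ : G) * x * (s₀ : G)⁻¹)
      rw [hmemcj, hmemcj] at h1
      simpa [mul_assoc] using h1
    obtain ⟨a, haT, haz⟩ : ∃ a : S, a ∈ T ∧ (a : G) * (a : G) = z := by
      obtain ⟨a, ha2⟩ : ∃ a : T, ((a : S) : G) * ((a : S) : G) ≠ 1 := by
        by_contra h
        push Not at h
        have hsub : (Finset.univ : Finset T).card ≤ ({1, z} : Finset G).card :=
          Finset.card_le_card_of_injOn (fun t => ((t : S) : G))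
            (fun t _ => by
              by_cases ht : ((t : S) : G) = 1
              · simp [ht]
              · simp [huniq _ (t : S).2 (orderOf_eq_prime (by rw [pow_two]; exact h t) ht)])
            fun a _ b _ e => Subtype.ext (Subtype.ext e)
        rw [Finset.card_univ, ← Nat.card_eq_fintype_card] at hsub
        have := Finset.card_le_two (a := (1 : G)) (b := z)
        omega
      obtain ⟨i, hi⟩ := hS2 (a : S)
      obtain ⟨j, hj, hj'⟩ := (Nat.dvd_prime_pow Nat.prime_two).1 (orderOf_dvd_of_pow_eq_one hi)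
      have hj2 : 2 ≤ j := by
        by_contra hlt
        refine ha2 ?_
        have h1 : orderOf (a : S) ∣ 2 := hj' ▸ (pow_dvd_pow 2 (Nat.le_of_lt_succ (not_le.1 hlt))).trans (pow_one 2).dvd
        have h2 := congrArg Subtype.val (orderOf_dvd_iff_pow_eq_one.1 h1)
        rwa [SubgroupClass.coe_pow, OneMemClass.coe_one, pow_two] at h2
      obtain ⟨l, rfl⟩ := Nat.exists_eq_add_of_le hj2
      refine ⟨(a : S) ^ 2 ^ l, T.pow_mem a.2 _, huniq _ (mul_mem (Subtype.prop _) (Subtype.prop _)) ?_⟩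
      rw [← Subgroup.coe_mul, Subgroup.orderOf_coe, ← pow_two, ← pow_mul, orderOf_pow' _ (by positivity), hj',
        ← pow_succ, Nat.gcd_eq_right (pow_dvd_pow 2 (by omega)), Nat.pow_div (by omega) two_pos,
        show 2 + l - (l + 1) = 1 by omega, pow_one]
    -- its scalar
    obtain ⟨u, huU, huW⟩ := SetLike.exists_of_lt (lt_of_le_of_ne hW₀U fun h => by
      have := Nat.card_pos (α := U)
      rw [h] at hW₀c
      exact hp.out.ne_one ((mul_eq_left₀ (by omega)).1 hW₀c.symm))
    have hsup : W₀ ⊔ zpowers u = U := Subgroup.eq_of_le_of_card_ge (sup_le hW₀U (zpowers_le.2 huU))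
      (by rw [card_sup_zpowers hcomm hexp hW₀U huU huW, hW₀c])
    have haU : ∀ x ∈ U, (a : G) * x * (a : G)⁻¹ ∈ U := fun x hx => (mem_normalizer_iff.1 (hSU a.2) x).1 hx
    haveI : (W₀.subgroupOf U).Normal := ⟨fun x hx g => by
      rw [mem_subgroupOf] at hx ⊢
      show (g : G) * x * (g : G)⁻¹ ∈ W₀
      rwa [hcomm g g.2 x x.2, mul_inv_cancel_right]⟩
    set π := QuotientGroup.mk' (W₀.subgroupOf U)
    have hgen : ∀ y : U ⧸ W₀.subgroupOf U, ∃ c : ℕ, y = π ⟨u, huU⟩ ^ c := by
      intro y
      obtain ⟨⟨y, hy⟩, rfl⟩ := QuotientGroup.mk'_surjective _ y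
      rw [← hsup] at hy
      haveI : IsMulCommutative U := ⟨⟨fun x y => Subtype.ext (hcomm x x.2 y y.2)⟩⟩
      have hy' : y ∈ (W₀ : Set G) * (zpowers u : Set G) := by
        rw [← Subgroup.coe_mul_of_left_le_normalizer_right]
        · exact hy
        · intro g hg
          refine mem_normalizer_iff.2 fun x => ⟨fun hx => ?_, fun hx => ?_⟩
          · rw [hcomm g (hW₀U hg) x (zpowers_le.2 huU hx), mul_inv_cancel_right]
            exact hx
          · have h := hcomm g (hW₀U hg) _ (zpowers_le.2 huU hx)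
            have hx' : g⁻¹ * (g * x * g⁻¹) * g = g * x * g⁻¹ := by rw [mul_assoc, ← h, inv_mul_cancel_left]
            rw [show x = g⁻¹ * (g * x * g⁻¹) * g by group, hx']
            exact hx
      obtain ⟨w, hw, k, hk, rfl⟩ := hy'
      obtain ⟨c, rfl⟩ := mem_powers_iff_mem_zpowers.2 hk
      refine ⟨c, ?_⟩
      rw [← map_pow]
      refine QuotientGroup.eq.2 ?_
      rw [mem_subgroupOf]
      show (w * u ^ c)⁻¹ * u ^ c ∈ W₀
      rw [mul_inv_rev, hcomm _ (inv_mem (pow_mem huU c)) _ (inv_mem (hW₀U hw)), inv_mul_cancel_right]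
      exact inv_mem hw
    let φ : U →* U :=
      { toFun := fun x => ⟨(a : G) * x * (a : G)⁻¹, haU x x.2⟩
        map_one' := Subtype.ext (by simp)
        map_mul' := fun x y => Subtype.ext (by simp [mul_assoc]) }
    have hφ : W₀.subgroupOf U ≤ (W₀.subgroupOf U).comap φ := by
      intro x hx
      rw [mem_subgroupOf] at hx
      rw [mem_comap, mem_subgroupOf]
      show (a : G) * x * (a : G)⁻¹ ∈ W₀
      have h : cj a W₀ = W₀ := haT
      rw [← h, hmemcj]
      simpa [mul_assoc] using hx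
    let ψ := QuotientGroup.map _ _ φ hφ
    have hψψ : ∀ y, ψ (ψ y) = y⁻¹ := by
      intro y
      obtain ⟨⟨y, hy⟩, rfl⟩ := QuotientGroup.mk'_surjective _ y
      show π (φ (φ ⟨y, hy⟩)) = (π ⟨y, hy⟩)⁻¹
      rw [← map_inv]
      congr 1
      refine Subtype.ext ?_
      show (a : G) * ((a : G) * y * (a : G)⁻¹) * (a : G)⁻¹ = y⁻¹
      rw [← hinv y hy, ← haz]
      group
    obtain ⟨c, hc⟩ := hgen (ψ (π ⟨u, huU⟩))
    have h1 := hψψ (π ⟨u, huU⟩)
    rw [hc, map_pow, hc, ← pow_mul, eq_inv_iff_mul_eq_one, ← pow_succ] at h1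
    have hord : orderOf (π ⟨u, huU⟩) = p := orderOf_eq_prime
      (by rw [← map_pow, show (⟨u, huU⟩ : U) ^ p = 1 from Subtype.ext (hexp u huU), map_one])
      (fun h => huW (mem_subgroupOf.1 ((QuotientGroup.eq_one_iff _).1 h)))
    have h2 : p ∣ c * c + 1 := hord ▸ orderOf_dvd_of_pow_eq_one h1
    have h3 : ((c : ZMod p)) ^ 2 = -1 := by
      rw [eq_neg_iff_add_eq_zero, pow_two]
      exact_mod_cast (ZMod.natCast_eq_zero_iff (c * c + 1) p).2 h2
    exact (ZMod.exists_sq_eq_neg_one_iff.1 ⟨(c : ZMod p), by rw [← h3, pow_two]⟩) hp4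
  have h2O : 2 * O.card ≤ ∑ W ∈ O, finrank (ZMod 2) (X W) := by
    rw [mul_comm, ← smul_eq_mul, ← Finset.sum_const]
    exact Finset.sum_le_sum fun W hW => (hO W hW).2.2
  exact hcard.trans (h2O.trans hsum)

end Elem

end CfsgLib.SEModule
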