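import Cfsg.Agent.Lib.SEModule.Transvection
import Cfsg.Agent.Lib.SEModule.AutSmall
import Cfsg.Agent.Lib.SEModule.Weights
import Cfsg.Agent.Lib.Core.Coprime

/-!
Owner: helper18 (S3841). The rank one case: a cyclic or quaternion 2-group of order `2 ^ k`, whose involution
moves a normalised subgroup of odd order, has faithful modules of dimension at least `2 k` only.
-/

set_option autoImplicit false
set_option linter.style.haveILetI false
set_option linter.unusedSectionVars false

namespace CfsgLib.SEModule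

open LinearMap Module Subgroup

variable {G : Type*} [Group G] [Finite G] {V : Type*} [AddCommGroup V] [Module (ZMod 2) V]
  [Module.Finite (ZMod 2) V] {ρ : Representation (ZMod 2) G V}

theorem two_mul_rk_le {z : G} (hz : z * z = 1) : 2 * rk ρ z ≤ finrank (ZMod 2) V := by
  have h : LinearMap.range (ρ z - 1) ≤ LinearMap.ker (ρ z - 1) := by
    rintro _ ⟨v, rfl⟩
    rw [LinearMap.mem_ker, ← Module.End.mul_apply, ← pow_two, sub_one_sq, pow_two, ← map_mul, hz, map_one, sub_self]
    rfl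
  have h1 := Submodule.finrank_mono h
  have h2 := LinearMap.finrank_range_add_finrank_ker (ρ z - 1)
  unfold rk
  omega

/-- The odd part of the order of a subgroup in small dimension. -/
theorem card_dvd_small (hρ : Function.Injective ρ) (hd : finrank (ZMod 2) V ≤ 7) {P : Subgroup G}
    (hP : Odd (Nat.card P)) :
    Nat.card P ∣ 3 ^ 4 * 5 * 7 ^ 2 * 31 * 127 ∧
      (finrank (ZMod 2) V ≤ 5 → Nat.card P ∣ 3 ^ 2 * 5 * 7 * 31) := by
  classical
  obtain ⟨d, hdd⟩ : ∃ d, finrank (ZMod 2) V = d := ⟨_, rfl⟩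
  rw [hdd] at hd ⊢
  set b := Module.finBasisOfFinrankEq (ZMod 2) V hdd
  let f : P →* GL (Fin d) (ZMod 2) :=
    (((LinearMap.toMatrixAlgEquiv b).toMonoidHom.comp (ρ : G →* Module.End (ZMod 2) V)).comp P.subtype).toHomUnits
  have hf : Function.Injective f := by
    intro x y hxy
    have h := congrArg Units.val hxy
    simp only [f, MonoidHom.coe_toHomUnits] at h
    exact Subtype.ext (hρ ((LinearMap.toMatrixAlgEquiv b).injective h))
  have h1 := Subgroup.card_dvd_of_injective f hf
  rw [Matrix.card_GL_field, ← Nat.card_eq_fintype_card, Nat.card_zmod] at h1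
  have hcop : ∀ n, (Nat.card P).Coprime (2 ^ n) := fun n => Nat.Coprime.pow_right n hP.coprime_two_right
  have key : ∀ n M : ℕ, Nat.card P ∣ 2 ^ n * M → Nat.card P ∣ M := fun n M h => (hcop n).dvd_of_dvd_mul_left h
  constructor
  · refine key 21 _ (h1.trans ?_)
    interval_cases d <;> norm_num [Fin.prod_univ_succ]
  · intro hd5
    refine key 10 _ (h1.trans ?_)
    interval_cases d <;> norm_num [Fin.prod_univ_succ]

/-- The involution of a generalised quaternion group of order at most sixteen moves no small group. -/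
theorem false_of_small (hρ : Function.Injective ρ) {S : Subgroup G} (hS2 : IsPGroup 2 S) {z : G} (hzS : z ∈ S)
    (hz : orderOf z = 2) (huniq : ∀ s ∈ S, orderOf s = 2 → s = z) {a b : G} (ha : a ∈ S) (hb : b ∈ S) {m : ℕ}
    (hm : m = 1 ∨ m = 2) (haz : a ^ 2 ^ m = z) (hba : b * a * b⁻¹ = a⁻¹) (hcard : Nat.card S = 2 ^ (m + 2))
    (hd : finrank (ZMod 2) V < 2 * (m + 2)) {P : Subgroup G} {p : ℕ} [hp : Fact p.Prime] (hp2 : p ≠ 2)
    (hP : IsPGroup p P) (hSP : S ≤ normalizer (P : Set G)) (hne : ∃ x ∈ P, z * x * z⁻¹ ≠ x) : False := by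
  classical
  have hzz : z * z = 1 := by rw [← pow_two, ← hz, pow_orderOf_eq_one]
  have hzc : ∀ s ∈ S, s * z * s⁻¹ = z := fun s hs => huniq _ (mul_mem (mul_mem hs hzS) (inv_mem hs))
    ((MulEquiv.orderOf_eq (MulAut.conj s) z).trans hz)
  have hzzconj : ∀ x : G, z * (z * x * z⁻¹) * z⁻¹ = x := fun x => by
    rw [show z * (z * x * z⁻¹) * z⁻¹ = z * z * x * (z * z)⁻¹ by group, hzz]; group
  obtain ⟨i, hi⟩ := hP.exists_card_eq
  have hPodd : Odd (Nat.card P) := by rw [hi]; exact (hp.out.odd_of_ne_two hp2).pow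
  have hd7 : finrank (ZMod 2) V ≤ 7 := by omega
  obtain ⟨hM, hM5⟩ := card_dvd_small hρ hd7 hPodd
  obtain ⟨x, hx, hxne⟩ := hne
  have hxz : z * x * z⁻¹ ∈ P := (mem_normalizer_iff.1 (hSP hzS) x).1 hx
  by_cases hcomm : ∀ u ∈ P, ∀ w ∈ P, u * w = w * u
  · -- abelian
    let U : Subgroup G :=
      { carrier := {u | u ∈ P ∧ u ^ p = 1 ∧ z * u * z⁻¹ = u⁻¹}
        one_mem' := ⟨one_mem _, one_pow _, by group⟩
        mul_mem' := fun {u w} hu hw => ⟨mul_mem hu.1 hw.1,
          by rw [Commute.mul_pow (hcomm u hu.1 w hw.1), hu.2.1, hw.2.1, one_mul],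
          by rw [show z * (u * w) * z⁻¹ = (z * u * z⁻¹) * (z * w * z⁻¹) by group, hu.2.2, hw.2.2,
            hcomm _ (inv_mem hu.1) _ (inv_mem hw.1), mul_inv_rev]⟩
        inv_mem' := fun {u} hu => ⟨inv_mem hu.1, by rw [inv_pow, hu.2.1, inv_one],
          by rw [show z * u⁻¹ * z⁻¹ = (z * u * z⁻¹)⁻¹ by group, hu.2.2]⟩ }
    set y := x * (z * x * z⁻¹)⁻¹
    have hy : y ∈ P := mul_mem hx (inv_mem hxz)
    have hy1 : y ≠ 1 := fun h => hxne (mul_inv_eq_one.1 h).symm
    have hzy : z * y * z⁻¹ = y⁻¹ := by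
      rw [show z * y * z⁻¹ = (z * x * z⁻¹) * (z * (z * x * z⁻¹) * z⁻¹)⁻¹ by simp only [y]; group, hzzconj,
        mul_inv_rev, inv_inv]
    obtain ⟨j, hj⟩ := hP ⟨y, hy⟩
    obtain ⟨U', hU'⟩ : ∃ u, u ∈ U ∧ u ≠ 1 := by
      obtain ⟨l, -, hl⟩ := (Nat.dvd_prime_pow hp.out).1 (orderOf_dvd_of_pow_eq_one (congrArg Subtype.val hj : y ^ p ^ j = 1))
      have hl0 : l ≠ 0 := fun h => hy1 (orderOf_eq_one_iff.1 (by rw [hl, h, pow_zero]))
      obtain ⟨l, rfl⟩ := Nat.exists_eq_succ_of_ne_zero hl0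
      refine ⟨y ^ p ^ l, ⟨pow_mem hy _, by rw [← pow_mul, ← pow_succ, ← hl, pow_orderOf_eq_one], ?_⟩, ?_⟩
      · rw [← conj_pow, hzy, inv_pow]
      · intro h
        have h1 := orderOf_dvd_of_pow_eq_one h
        rw [hl, Nat.pow_dvd_pow_iff_le_right hp.out.one_lt] at h1
        omega
    have hUbot : U ≠ ⊥ := fun h => hU'.2 (by have h' := hU'.1; rwa [h, mem_bot] at h')
    have hSU : S ≤ normalizer (U : Set G) := by
      intro s hs
      have key : ∀ s ∈ S, ∀ u ∈ U, s * u * s⁻¹ ∈ U := fun s hs u hu =>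
        ⟨(mem_normalizer_iff.1 (hSP hs) u).1 hu.1, by rw [conj_pow, hu.2.1, mul_one, mul_inv_cancel], by
          have h := hzc s hs
          have hcz : z * s = s * z := (mul_inv_eq_iff_eq_mul.1 h).symm
          rw [show z * (s * u * s⁻¹) * z⁻¹ = (z * s) * u * (z * s)⁻¹ by group, hcz,
            show s * z * u * (s * z)⁻¹ = s * (z * u * z⁻¹) * s⁻¹ by group, hu.2.2]
          group⟩
      refine mem_normalizer_iff.2 fun u => ⟨key s hs u, fun h => ?_⟩
      have := key s⁻¹ (inv_mem hs) _ h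
      simpa [mul_assoc] using this
    have hUcomm : ∀ u ∈ U, ∀ w ∈ U, u * w = w * u := fun u hu w hw => hcomm u hu.1 w hw.1
    by_cases hp4 : p % 4 = 3
    · have h := card_le_finrank ρ hUcomm (fun u hu => hu.2.1) hρ hp4 hUbot hS2 hSU hzS hz huniq (fun u hu => hu.2.2)
      rw [hcard] at h
      rcases hm with rfl | rfl <;> omega
    · -- the prime is five
      have hp5 : p = 5 := by
        have hi0 : i ≠ 0 := fun h => by
          rw [h, pow_zero] at hi
          exact hy1 (by simpa using (Subgroup.eq_bot_of_card_eq P hi).le hy)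
        have hd : p ∣ 3 ^ 4 * 5 * 7 ^ 2 * 31 * 127 := (hi ▸ dvd_pow_self p hi0).trans hM
        rcases (Nat.Prime.dvd_mul hp.out).1 hd with h | h
        rcases (Nat.Prime.dvd_mul hp.out).1 h with h | h
        rcases (Nat.Prime.dvd_mul hp.out).1 h with h | h
        rcases (Nat.Prime.dvd_mul hp.out).1 h with h | h
        · rw [(Nat.prime_dvd_prime_iff_eq hp.out Nat.prime_three).1 (hp.out.dvd_of_dvd_pow h)] at hp4; omega
        · exact (Nat.prime_dvd_prime_iff_eq hp.out (by norm_num)).1 h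
        · rw [(Nat.prime_dvd_prime_iff_eq hp.out (by norm_num)).1 (hp.out.dvd_of_dvd_pow h : p ∣ 7)] at hp4; omega
        · rw [(Nat.prime_dvd_prime_iff_eq hp.out (by norm_num)).1 h] at hp4; omega
        · rw [(Nat.prime_dvd_prime_iff_eq hp.out (by norm_num)).1 h] at hp4; omega
      subst hp5
      have hU5 : Nat.card U = 5 := by
        obtain ⟨n, hn⟩ := (hP.to_le (fun u hu => hu.1 : U ≤ P)).exists_card_eq
        have h1 : Nat.card U ∣ 3 ^ 4 * 5 * 7 ^ 2 * 31 * 127 := (card_dvd_of_le (fun u hu => hu.1 : U ≤ P)).trans hM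
        rw [hn] at h1
        rcases (show n = 0 ∨ n = 1 ∨ 2 ≤ n by omega) with h | h | h
        · exact absurd (Subgroup.eq_bot_of_card_eq U (by rw [hn, h, pow_zero])) hUbot
        · rw [hn, h, pow_one]
        · exact absurd ((pow_dvd_pow 5 h).trans h1) (by norm_num)
      have hgen : zpowers U' = U := by
        refine Subgroup.eq_of_le_of_card_ge (zpowers_le.2 hU'.1) ?_
        rw [hU5, Nat.card_zpowers, orderOf_eq_prime hU'.1.2.1 hU'.2]
      have hca : a * U' * a⁻¹ ∈ U := (mem_normalizer_iff.1 (hSU ha) U').1 hU'.1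
      have hcb : b * U' * b⁻¹ ∈ U := (mem_normalizer_iff.1 (hSU hb) U').1 hU'.1
      rw [← hgen] at hca hcb
      obtain ⟨c, hc⟩ := hca
      obtain ⟨c', hc'⟩ := hcb
      replace hc : U' ^ c = a * U' * a⁻¹ := hc
      replace hc' : U' ^ c' = b * U' * b⁻¹ := hc'
      have hmap : ∀ (g : G) (n : ℤ), g * U' ^ n * g⁻¹ = (g * U' * g⁻¹) ^ n := fun g n => (conj_zpow).symm
      -- `a` and its inverse act alike
      have h2 : a * a * U' * (a * a)⁻¹ = U' := by
        have e1 : a⁻¹ * (U' ^ c') * a = (U' ^ c') ^ c := by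
          calc a⁻¹ * (U' ^ c') * a = a⁻¹ * b * U' * (a⁻¹ * b)⁻¹ := by rw [hc']; group
            _ = b * (a * U' * a⁻¹) * b⁻¹ := by
              rw [show a⁻¹ * b = b * a by rw [← hba, inv_mul_cancel_right]]
              group
            _ = (U' ^ c') ^ c := by rw [← hc, hmap, hc']
        have e2 : U' ^ c' = a * (U' ^ c') ^ c * a⁻¹ := by rw [← e1]; group
        rw [← zpow_mul, hmap, ← hc, ← zpow_mul] at e2
        have e3 : b * (a * a * U' * (a * a)⁻¹) * b⁻¹ = b * U' * b⁻¹ := by
          rw [show a * a * U' * (a * a)⁻¹ = a * (a * U' * a⁻¹) * a⁻¹ by group, ← hc, hmap, ← hc, ← zpow_mul,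
            hmap, ← hc', ← zpow_mul]
          conv_rhs => rw [e2]
          congr 1; ring
        exact mul_left_cancel (mul_right_cancel e3)
      have hzfix : z * U' * z⁻¹ = U' := by
        rw [← haz]
        obtain ⟨m', rfl⟩ : ∃ m', m = m' + 1 := ⟨m - 1, by omega⟩
        rw [pow_succ', pow_mul, pow_two]
        generalize 2 ^ m' = n
        induction n with
        | zero => simp
        | succ n ih =>
          rw [pow_succ, show (a * a) ^ n * (a * a) * U' * ((a * a) ^ n * (a * a))⁻¹ =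
            (a * a) ^ n * (a * a * U' * (a * a)⁻¹) * ((a * a) ^ n)⁻¹ by group, h2, ih]
      have h1 : U' * U' = 1 := by
        have := hU'.1.2.2.symm.trans hzfix
        nth_rw 1 [← this]
        exact inv_mul_cancel _
      have h3 : orderOf U' ∣ 2 := orderOf_dvd_of_pow_eq_one (by rw [pow_two, h1])
      rw [orderOf_eq_prime hU'.1.2.1 hU'.2] at h3
      exact absurd h3 (by norm_num)
  · -- nonabelian
    have hi3 : 3 ≤ i := by
      by_contra h
      refine hcomm ?_
      rcases (show i = 0 ∨ i = 1 ∨ i = 2 by omega) with e | e | e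
      · rw [e, pow_zero] at hi
        intro u hu w hw
        rw [Subgroup.eq_bot_of_card_eq P hi, mem_bot] at hu
        rw [hu, one_mul, mul_one]
      · haveI : IsCyclic P := isCyclic_of_prime_card (by rw [hi, e, pow_one])
        intro u hu w hw
        exact congrArg Subtype.val ((IsCyclic.commutative (α := P)).is_comm.comm ⟨u, hu⟩ ⟨w, hw⟩)
      · intro u hu w hw
        exact congrArg Subtype.val
          ((IsPGroup.commutative_of_card_eq_prime_sq (p := p) (G := P) (by rw [hi, e])) ⟨u, hu⟩ ⟨w, hw⟩)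
    have hp3 : p = 3 ∧ i ≤ 4 := by
      have h3 : p ^ 3 ∣ 3 ^ 4 * 5 * 7 ^ 2 * 31 * 127 := (pow_dvd_pow p hi3).trans (hi ▸ hM)
      have hp3 : p = 3 := by
        by_contra hp3
        have h4 : p ^ 3 ∣ 5 * 7 ^ 2 * 31 * 127 := by
          refine (Nat.Coprime.dvd_of_dvd_mul_left (Nat.Coprime.pow 3 4 ((Nat.coprime_primes hp.out Nat.prime_three).2 hp3)) ?_)
          rwa [← mul_assoc, ← mul_assoc, ← mul_assoc]
        have h5 : p ∣ 5 * 7 ^ 2 * 31 * 127 := (dvd_pow_self p (by norm_num)).trans h4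
        have hlist : p = 5 ∨ p = 7 ∨ p = 31 ∨ p = 127 := by
          have hq : ∀ q : ℕ, q.Prime → p ∣ q → p = q := fun q hq h => (Nat.prime_dvd_prime_iff_eq hp.out hq).1 h
          rcases (Nat.Prime.dvd_mul hp.out).1 h5 with h | h
          rcases (Nat.Prime.dvd_mul hp.out).1 h with h | h
          rcases (Nat.Prime.dvd_mul hp.out).1 h with h | h
          · exact Or.inl (hq 5 (by norm_num) h)
          · exact Or.inr (Or.inl (hq 7 (by norm_num) (hp.out.dvd_of_dvd_pow h)))
          · exact Or.inr (Or.inr (Or.inl (hq 31 (by norm_num) h)))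
          · exact Or.inr (Or.inr (Or.inr (hq 127 (by norm_num) h)))
        rcases hlist with rfl | rfl | rfl | rfl <;> norm_num at h4
      refine ⟨hp3, ?_⟩
      subst hp3
      by_contra h
      have h6 : 3 ^ 5 ∣ 3 ^ 4 * 5 * 7 ^ 2 * 31 * 127 := (pow_dvd_pow 3 (by omega)).trans (hi ▸ hM)
      norm_num at h6
    obtain ⟨rfl, hi4⟩ := hp3
    have hm2 : m = 2 := by
      rcases hm with rfl | rfl
      · have h6 : 3 ^ 3 ∣ 3 ^ 2 * 5 * 7 * 31 := (pow_dvd_pow 3 hi3).trans (hi ▸ hM5 (by omega))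
        norm_num at h6
      · rfl
    subst hm2
    let f : normalizer (P : Set G) →* MulAut P :=
      { toFun := fun s => restrictAut P (MulAut.conj (s : G)) fun u hu => (mem_normalizer_iff.1 s.2 u).1 hu
        map_one' := MulEquiv.ext fun u => Subtype.ext (by simp)
        map_mul' := fun s t => MulEquiv.ext fun u => Subtype.ext (by simp [restrictAut, mul_assoc]) }
    have hz8 : a ^ 4 * a ^ 4 = 1 := by rw [show a ^ 4 = z from haz, hzz]
    have h := pow_four_eq_one (R := P) (by rw [hi]; exact pow_dvd_pow 3 hi4)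
      (fun hc => absurd (fun u hu w hw => congrArg Subtype.val (hc.is_comm.comm (⟨u, hu⟩ : P) ⟨w, hw⟩)) hcomm)
      (f ⟨a, hSP ha⟩) (f ⟨b, hSP hb⟩)
      (by rw [← map_pow, ← map_mul, show (⟨a, hSP ha⟩ : normalizer (P : Set G)) ^ 4 * ⟨a, hSP ha⟩ ^ 4 = 1 from
            Subtype.ext hz8, map_one])
      (by rw [← map_inv, ← map_mul, ← map_mul, show (⟨b, hSP hb⟩ : normalizer (P : Set G)) * ⟨a, hSP ha⟩ * ⟨b, hSP hb⟩⁻¹ =
            ⟨a, hSP ha⟩⁻¹ from Subtype.ext hba, map_inv])
    rw [← map_pow] at h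
    have h1 := congrArg Subtype.val (DFunLike.congr_fun h ⟨x, hx⟩)
    refine hxne ?_
    rw [show z = a ^ 4 from haz.symm]
    exact h1

/-- The rank one bound. -/
theorem rankOne_finrank (hρ : Function.Injective ρ) {S K : Subgroup G} (hS2 : IsPGroup 2 S) (hK : Odd (Nat.card K))
    (hSK : S ≤ normalizer (K : Set G)) {z : G} (hzS : z ∈ S) (hz : orderOf z = 2)
    (huniq : ∀ s ∈ S, orderOf s = 2 → s = z) (hne : ∃ x ∈ K, x * z ≠ z * x)
    (hshape : IsCyclic S ∨ ∃ m : ℕ, 1 ≤ m ∧ Nonempty (S ≃* QuaternionGroup (2 ^ m))) {k : ℕ}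
    (hk : Nat.card S = 2 ^ k) : 2 * k ≤ finrank (ZMod 2) V := by
  classical
  have hzz : z * z = 1 := by rw [← pow_two, ← hz, pow_orderOf_eq_one]
  have hz1 : z ≠ 1 := fun h => by rw [h, orderOf_one] at hz; omega
  -- the kernel chain at an element of largest order
  have chain : ∀ a ∈ S, ∀ j : ℕ, orderOf a = 2 ^ (j + 1) →
      a ^ 2 ^ j = z ∧ 2 ^ j + rk ρ z ≤ finrank (ZMod 2) V := by
    intro a ha j hj
    have hne' : a ^ 2 ^ j ≠ 1 := fun h => by
      have h1 := orderOf_dvd_of_pow_eq_one h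
      rw [hj, Nat.pow_dvd_pow_iff_le_right (by norm_num)] at h1
      omega
    have e : a ^ 2 ^ j = z := huniq _ (pow_mem ha _)
      (orderOf_eq_prime (by rw [← pow_mul, ← pow_succ, ← hj, pow_orderOf_eq_one]) hne')
    refine ⟨e, e ▸ two_pow_add_rk_le hρ (i := j + 1) (by rw [← hj, pow_orderOf_eq_one]) hne'⟩
  have hrk2 : ∀ a ∈ S, a * a = z → 2 ≤ rk ρ z := by
    intro a ha haz
    by_contra h
    have h0 : rk ρ z ≠ 0 := fun e => hz1 (rk_eq_zero hρ e)
    exact false_of_transvection hρ hK haz hz (hSK ha) hne (by omega)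
  have hgrow : ∀ j, 2 * (j + 1) ≤ 2 ^ j + 2 := fun j => by
    induction j with
    | zero => norm_num
    | succ n ih =>
      have := Nat.one_le_two_pow (n := n)
      rw [pow_succ]
      rcases Nat.eq_zero_or_pos n with rfl | hn
      · norm_num
      · have : 2 ≤ 2 ^ n := Nat.le_self_pow hn.ne' 2
        omega
  rcases hshape with hcyc | ⟨m, hm, ⟨e⟩⟩
  · obtain ⟨g, hg⟩ := IsCyclic.exists_generator (α := S)
    have hord : orderOf (g : G) = 2 ^ k := by
      rw [Subgroup.orderOf_coe, ← hk, orderOf_eq_card_of_forall_mem_zpowers hg]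
    rcases (show k = 0 ∨ k = 1 ∨ 2 ≤ k by omega) with h | h | h
    · omega
    · have h1 := two_mul_rk_le (ρ := ρ) hzz
      have h0 : rk ρ z ≠ 0 := fun e => hz1 (rk_eq_zero hρ e)
      omega
    · obtain ⟨j, rfl⟩ := Nat.exists_eq_add_of_le h
      obtain ⟨he, hle⟩ := chain g g.2 (j + 1) (by rw [hord]; congr 1; omega)
      have h2 := hrk2 ((g : G) ^ 2 ^ j) (pow_mem g.2 _) (by rw [← pow_two, ← pow_mul, ← pow_succ, he])
      have := hgrow (j + 1)
      omega
  · have hcard : k = m + 2 := by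
      have h := Nat.card_congr e.toEquiv
      rw [hk, Nat.card_eq_fintype_card, QuaternionGroup.card, show 4 * 2 ^ m = 2 ^ (m + 2) by ring] at h
      exact Nat.pow_right_injective le_rfl h
    subst hcard
    set a : S := e.symm (QuaternionGroup.a 1)
    set b : S := e.symm (QuaternionGroup.xa 0)
    have hord : orderOf (a : G) = 2 ^ (m + 1) := by
      rw [Subgroup.orderOf_coe, MulEquiv.orderOf_eq, QuaternionGroup.orderOf_a_one, pow_succ, mul_comm]
    obtain ⟨he, hle⟩ := chain a a.2 m hord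
    have hba : (b : G) * a * (b : G)⁻¹ = (a : G)⁻¹ := by
      have h : b * a = a⁻¹ * b := by
        apply e.injective
        simp [a, b]
        show QuaternionGroup.xa 1 = QuaternionGroup.a (-1) * QuaternionGroup.xa 0
        simp
      rw [← Subgroup.coe_mul, h, Subgroup.coe_mul, Subgroup.coe_inv, mul_inv_cancel_right]
    rcases (show 3 ≤ m ∨ m = 1 ∨ m = 2 by omega) with h | h
    · obtain ⟨j, rfl⟩ := Nat.exists_eq_add_of_le hm
      have h2 := hrk2 ((a : G) ^ 2 ^ j) (pow_mem a.2 _) (by rw [← pow_two, ← pow_mul, ← pow_succ, add_comm j, he])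
      have h3 : 2 * (1 + j + 2) ≤ 2 ^ (1 + j) + 2 := by
        obtain ⟨l, rfl⟩ := Nat.exists_eq_add_of_le (show 2 ≤ j by omega)
        have := hgrow (l + 2)
        rw [show 1 + (2 + l) = l + 2 + 1 by omega, pow_succ]
        have : 4 ≤ 2 ^ (l + 2) := le_trans (by norm_num) (Nat.pow_le_pow_right two_pos (show 2 ≤ l + 2 by omega))
        omega
      omega
    · by_contra hlt
      -- an invariant Sylow subgroup which is moved
      obtain ⟨p, hp, P, hPK, hPp, hSP, hPne⟩ : ∃ p, p.Prime ∧ ∃ P : Subgroup G, P ≤ K ∧ IsPGroup p P ∧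
          S ≤ normalizer (P : Set G) ∧ ∃ x ∈ P, z * x * z⁻¹ ≠ x := by
        by_contra hcon
        push Not at hcon
        obtain ⟨x, hx, hxne⟩ := hne
        let C : Subgroup G := K ⊓ centralizer ({z} : Set G)
        have hcop : (Nat.card S).Coprime (Nat.card K) := by
          rw [hk]; exact (Nat.Coprime.pow_left _ hK.coprime_two_left)
        have hsol : Group.IsSolvable S ∨ Group.IsSolvable K := Or.inl (by
          haveI := hS2.isNilpotent
          infer_instance)
        have hle : Nat.card K ∣ Nat.card C := by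
          refine (Nat.factorization_prime_le_iff_dvd Nat.card_pos.ne' Nat.card_pos.ne').1 fun p hp => ?_
          haveI := Fact.mk hp
          obtain ⟨Q, hQ⟩ := CfsgLib.Core.exists_invariant_sylow hSK hcop hsol p
          have hfix := hcon p hp ((Q : Subgroup K).map K.subtype) (map_subtype_le _) (Q.isPGroup'.map _) hQ
          have hQC : (Q : Subgroup K).map K.subtype ≤ C := le_inf (map_subtype_le _) fun y hy =>
            mem_centralizer_singleton_iff.2 (mul_inv_eq_iff_eq_mul.1 (hfix y hy)).symm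
          have hd := card_dvd_of_le hQC
          rw [Subgroup.card_map_of_injective K.subtype_injective, Q.card_eq_multiplicity] at hd
          exact (hp.pow_dvd_iff_le_factorization Nat.card_pos.ne').1 hd
        refine hxne ?_
        have hCK : C = K := Subgroup.eq_of_le_of_card_ge inf_le_left (Nat.le_of_dvd Nat.card_pos hle)
        have : x ∈ C := hCK ▸ hx
        exact mem_centralizer_singleton_iff.1 this.2
      haveI := Fact.mk hp
      have hp2 : p ≠ 2 := by
        rintro rfl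
        obtain ⟨i, hi⟩ := hPp.exists_card_eq
        obtain ⟨x, hx, hxne⟩ := hPne
        rcases Nat.eq_zero_or_pos i with rfl | hi0
        · rw [Subgroup.eq_bot_of_card_eq P hi, mem_bot] at hx
          exact hxne (by rw [hx, mul_one, mul_inv_cancel])
        · have h2 : 2 ∣ Nat.card K := ((hi ▸ dvd_pow_self 2 hi0.ne') : 2 ∣ Nat.card P).trans (card_dvd_of_le hPK)
          exact Nat.not_even_iff_odd.2 hK (even_iff_two_dvd.2 h2)
      exact false_of_small hρ hS2 hzS hz huniq a.2 b.2 h he hba hk (not_le.1 hlt) hp2 hPp hSP hPne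

end CfsgLib.SEModule
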