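import Cfsg.Agent.Lib.SEModule.Linear

/-!
Owner: helper18 (S3841). An involution moving a normalised subgroup of odd order, which is the square of an
element normalising it, is not a transvection.
-/

set_option autoImplicit false
set_option linter.style.haveILetI false
set_option linter.unusedSectionVars false

namespace CfsgLib.SEModule

open LinearMap Module

variable {G : Type*} [Group G] [Finite G] {V : Type*} [AddCommGroup V] [Module (ZMod 2) V]
  [Module.Finite (ZMod 2) V] {ρ : Representation (ZMod 2) G V}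

/-- A product of odd order of rank at most two has order one or three. -/
theorem pow_three_of_rk_le_two (hρ : Function.Injective ρ) {y : G} (hodd : Odd (orderOf y))
    (hr : rk ρ y ≤ 2) : y ^ 3 = 1 := by
  have key : ∀ p a : ℕ, p.Prime → p ^ (a + 1) ∣ orderOf y → p ^ (a + 1) = 3 := by
    intro p a hp hd
    haveI := Fact.mk hp
    have hp2 : p ≠ 2 := fun h => Nat.not_even_iff_odd.2 hodd
      (even_iff_two_dvd.2 (h ▸ (dvd_pow_self p a.succ_ne_zero).trans hd))
    set w := y ^ (orderOf y / p ^ (a + 1))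
    have hw : orderOf w = p ^ (a + 1) := orderOf_pow_orderOf_div (orderOf_pos y).ne' hd
    obtain ⟨h0, h1⟩ := dvd_two_pow_rk hρ hp2 hw
    have h2 : rk ρ (w ^ p ^ a) ≤ 2 := ((rk_pow_le ρ w _).trans (rk_pow_le ρ y _)).trans hr
    have h3 : 1 < p ^ (a + 1) := Nat.one_lt_pow a.succ_ne_zero hp.one_lt
    rcases (show rk ρ (w ^ p ^ a) = 1 ∨ rk ρ (w ^ p ^ a) = 2 by omega) with h | h <;> rw [h] at h1
    · have h4 : p ^ (a + 1) ≤ 1 := Nat.le_of_dvd Nat.one_pos h1
      omega
    · have h4 : p ^ (a + 1) ∣ 3 := h1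
      rcases (Nat.dvd_prime Nat.prime_three).1 h4 with h4 | h4
      · omega
      · exact h4
  refine orderOf_dvd_iff_pow_eq_one.1 ?_
  have hpow : orderOf y = 3 ^ (orderOf y).primeFactorsList.length :=
    Nat.eq_prime_pow_of_unique_prime_dvd (orderOf_pos y).ne' fun {d} hd hdd => by
      simpa using key d 0 hd (by simpa using hdd)
  rcases Nat.lt_or_ge (orderOf y).primeFactorsList.length 2 with h | h
  · rw [hpow]
    exact (pow_dvd_pow 3 (Nat.le_of_lt_succ h)).trans (by norm_num)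
  · exact absurd (key 3 1 Nat.prime_three (hpow ▸ pow_dvd_pow 3 h)) (by norm_num)

theorem false_of_transvection (hρ : Function.Injective ρ) {K : Subgroup G} (hK : Odd (Nat.card K))
    {a z : G} (haz : a * a = z) (hz : orderOf z = 2) (haK : a ∈ Subgroup.normalizer (K : Set G))
    (hne : ∃ k ∈ K, k * z ≠ z * k) (h1 : rk ρ z = 1) : False := by
  classical
  have hzz : z * z = 1 := by rw [← pow_two, ← hz, pow_orderOf_eq_one]
  have hzi : z⁻¹ = z := inv_eq_of_mul_eq_one_right hzz
  have hzK : ∀ k ∈ K, z * k * z ∈ K := fun k hk => by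
    have h := (Subgroup.mem_normalizer_iff.1 (haz ▸ mul_mem haK haK : z ∈ Subgroup.normalizer (K : Set G)) k).1 hk
    rwa [hzi] at h
  have hac : a * z = z * a := by rw [← haz, mul_assoc]
  -- the conjugates
  let InT : G → Prop := fun t => ∃ k ∈ K, t = k * z * k⁻¹
  have hTinv : ∀ {t}, InT t → t * t = 1 := by
    rintro _ ⟨k, -, rfl⟩
    rw [show k * z * k⁻¹ * (k * z * k⁻¹) = k * (z * z) * k⁻¹ by group, hzz, mul_one, mul_inv_cancel]
  have hTK : ∀ {t t'}, InT t → InT t' → t * t' ∈ K := by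
    rintro _ _ ⟨k, hk, rfl⟩ ⟨k', hk', rfl⟩
    rw [show k * z * k⁻¹ * (k' * z * k'⁻¹) = k * (z * (k⁻¹ * k') * z) * k'⁻¹ by group]
    exact mul_mem (mul_mem hk (hzK _ (mul_mem (inv_mem hk) hk'))) (inv_mem hk')
  have hTrk : ∀ {t}, InT t → rk ρ t = 1 := by
    rintro _ ⟨k, -, rfl⟩
    rw [rk_conj, h1]
  have hTconj : ∀ {t t'}, InT t → InT t' → InT (t * t' * t) := by
    rintro _ _ ⟨k, hk, rfl⟩ ⟨k', hk', rfl⟩
    refine ⟨k * (z * (k⁻¹ * k') * z), mul_mem hk (hzK _ (mul_mem (inv_mem hk) hk')), ?_⟩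
    simp only [mul_inv_rev, inv_inv, hzi, mul_assoc]
    rw [← mul_assoc z z, hzz, one_mul]
  have hcube : ∀ {t t'}, InT t → InT t' → (t * t') ^ 3 = 1 := fun {t t'} ht ht' =>
    pow_three_of_rk_le_two hρ (hK.of_dvd_nat (Subgroup.orderOf_dvd_natCard _ (hTK ht ht')))
      ((rk_mul_le ρ t t').trans (by rw [hTrk ht, hTrk ht']))
  let N : G → Module.End (ZMod 2) V := fun t => ρ t - 1
  have hN2 : ∀ {t}, InT t → N t * N t = 0 := fun {t} ht => by
    rw [← pow_two, sub_one_sq, pow_two, ← map_mul, hTinv ht, map_one, sub_self]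
  have huniq : ∀ {t}, InT t → ∀ u v, N t u ≠ 0 → N t v ≠ 0 → N t u = N t v := by
    intro t ht u v hu hv
    haveI : Finite V := Module.finite_of_finite (ZMod 2)
    have hc : Nat.card (LinearMap.range (N t)) = 2 := by
      rw [Module.natCard_eq_pow_finrank (K := ZMod 2), Nat.card_zmod, show finrank (ZMod 2) (LinearMap.range (N t)) = 1
        from hTrk ht, pow_one]
    obtain ⟨c, d, -, he⟩ := Nat.card_eq_two_iff.1 hc
    have h0 := (Set.eq_univ_iff_forall.1 he) (0 : LinearMap.range (N t))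
    have hu' := (Set.eq_univ_iff_forall.1 he) (⟨_, ⟨u, rfl⟩⟩ : LinearMap.range (N t))
    have hv' := (Set.eq_univ_iff_forall.1 he) (⟨_, ⟨v, rfl⟩⟩ : LinearMap.range (N t))
    simp only [Set.mem_insert_iff, Set.mem_singleton_iff] at h0 hu' hv'
    rcases hu' with e | e <;> rcases hv' with e' | e'
    · exact congrArg Subtype.val (e.trans e'.symm)
    · rcases h0 with e0 | e0
      · exact absurd (congrArg Subtype.val (e.trans e0.symm)) hu
      · exact absurd (congrArg Subtype.val (e'.trans e0.symm)) hv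
    · rcases h0 with e0 | e0
      · exact absurd (congrArg Subtype.val (e'.trans e0.symm)) hv
      · exact absurd (congrArg Subtype.val (e.trans e0.symm)) hu
    · exact congrArg Subtype.val (e.trans e'.symm)
  -- two distinct members do not annihilate each other
  have hA : ∀ {t t'}, InT t → InT t' → t ≠ t' → ∀ v, N t' v ≠ 0 → N t (N t' v) ≠ 0 := by
    intro t t' ht ht' hne v hv h0
    have hzero : N t * N t' = 0 := by
      refine LinearMap.ext fun w => ?_
      by_cases hw : N t' w = 0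
      · rw [Module.End.mul_apply, hw, map_zero]; rfl
      · rw [Module.End.mul_apply, huniq ht' w v hw hv, h0]; rfl
    have e : ρ (t * t') - 1 = N t + N t' := by
      have : (ρ t - 1) * (ρ t' - 1) = 0 := hzero
      rw [sub_mul, mul_sub, mul_one, one_mul] at this
      rw [map_mul]
      show ρ t * ρ t' - 1 = (ρ t - 1) + (ρ t' - 1)
      linear_combination (norm := abel) this
    have h4 : (ρ (t * t') - 1) ^ 2 ^ 2 = 0 := by
      have h2 : (N t + N t') * (N t + N t') = N t' * N t := by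
        rw [add_mul, mul_add, mul_add, hN2 ht, hN2 ht', hzero]; abel
      rw [e, show (2 : ℕ) ^ 2 = 2 + 2 by rfl, pow_add, pow_two, h2, mul_assoc, ← mul_assoc (N t) (N t'), hzero,
        zero_mul, mul_zero]
    rw [sub_one_two_pow, sub_eq_zero, ← map_pow, ← map_one ρ] at h4
    have h4' : (t * t') ^ 4 = 1 := hρ h4
    rw [pow_succ, hcube ht ht', one_mul] at h4'
    exact hne ((eq_inv_of_mul_eq_one_left h4').trans (inv_eq_of_mul_eq_one_right (hTinv ht')))
  have hexists : ∀ {t}, InT t → ∃ v, N t v ≠ 0 := by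
    intro t ht
    by_contra h
    push Not at h
    have := hTrk ht
    rw [rk, LinearMap.range_eq_bot.2 (LinearMap.ext h : ρ t - 1 = 0), finrank_bot] at this
    exact zero_ne_one this
  -- there are only three
  have hthree : ∀ {t₁ t₂ t₃}, InT t₁ → InT t₂ → InT t₃ → t₁ ≠ t₂ → t₃ ≠ t₁ → t₃ ≠ t₂ → t₃ = t₁ * t₂ * t₁ := by
    intro t₁ t₂ t₃ h₁ h₂ h₃ h12 h31 h32
    by_contra hne4
    obtain ⟨v, hv⟩ := hexists h₂
    set w := ρ t₁ v with hw
    have hc4 : N (t₁ * t₂ * t₁) w = N t₂ v + N t₁ (N t₂ v) := by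
      have e : ρ t₁ (ρ t₁ v) = v := by
        rw [← Module.End.mul_apply, ← map_mul, hTinv h₁, map_one]; rfl
      show ρ (t₁ * t₂ * t₁) w - w = _
      rw [map_mul, map_mul, Module.End.mul_apply, Module.End.mul_apply, hw, e]
      show ρ t₁ (ρ t₂ v) - ρ t₁ v = (ρ t₂ v - v) + (ρ t₁ (ρ t₂ v - v) - (ρ t₂ v - v))
      rw [map_sub]; abel
    have h0 : N t₃ (N (t₁ * t₂ * t₁) w) = 0 := by
      have hn1 := hA h₁ h₂ h12 v hv
      rw [hc4, map_add, huniq h₃ _ _ (hA h₃ h₂ h32 v hv) (hA h₃ h₁ h31 _ hn1)]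
      exact add_self_zero _
    refine hA h₃ (hTconj h₁ h₂) hne4 w ?_ h0
    intro h
    rw [hc4] at h
    have h' := congrArg (N t₁) h
    rw [map_add, map_zero, ← Module.End.mul_apply (N t₁) (N t₁), hN2 h₁, LinearMap.zero_apply, add_zero] at h'
    exact hA h₁ h₂ h12 v hv h'
  -- the action of the square root
  obtain ⟨k, hk, hkne⟩ := hne
  have hTz : InT z := ⟨1, one_mem _, by group⟩
  set t := k * z * k⁻¹ with ht
  have hTt : InT t := ⟨k, hk, rfl⟩
  have htz : t ≠ z := fun h => hkne (by rw [ht] at h; exact mul_inv_eq_iff_eq_mul.1 h)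
  set t' := a * t * a⁻¹ with ht'
  have hTt' : InT t' := ⟨a * k * a⁻¹, (Subgroup.mem_normalizer_iff.1 haK k).1 hk, by
    rw [ht', ht, show a * (k * z * k⁻¹) * a⁻¹ = a * k * a⁻¹ * (a * z * a⁻¹) * (a * k * a⁻¹)⁻¹ by group,
      hac, mul_inv_cancel_right]⟩
  have ht'z : t' ≠ z := fun h => htz (by
    have h' : a * t * a⁻¹ = a * z * a⁻¹ := by rw [← ht', h, hac, mul_inv_cancel_right]
    exact mul_left_cancel (mul_right_cancel h'))
  have hfix : a * t' * a⁻¹ = t := by
    by_cases he : t' = t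
    · rw [he]; exact he
    · have h3 := hthree hTz hTt hTt' htz.symm ht'z he
      rw [h3, show a * (z * t * z) * a⁻¹ = a * z * a⁻¹ * t' * (a * z * a⁻¹) by rw [ht']; group, hac,
        mul_inv_cancel_right, h3, show z * (z * t * z) * z = z * z * t * (z * z) by group, hzz, one_mul, mul_one]
  have hzt : z * t = t * z := by
    rw [ht', show a * (a * t * a⁻¹) * a⁻¹ = (a * a) * t * (a * a)⁻¹ by group, haz] at hfix
    exact mul_inv_eq_iff_eq_mul.1 hfix
  have hsq : (t * z) ^ 2 = 1 := by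
    rw [pow_two, mul_assoc, ← mul_assoc z t, hzt, mul_assoc t z, hzz, mul_one, hTinv hTt]
  have hc := hcube hTt hTz
  rw [pow_succ, hsq, one_mul] at hc
  exact htz ((eq_inv_of_mul_eq_one_left hc).trans hzi)

end CfsgLib.SEModule
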