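import Cfsg.Agent.Lib.Classical.Unitary.Two

/-!
Owner: helper18 (S3841). An elementary abelian 2-subgroup of `PSU(3, q)`, `q` even, has order at most `q`:
its lifts are transvections with a common isotropic centre.
-/

set_option autoImplicit false
set_option linter.style.haveILetI false
set_option linter.unusedSectionVars false

namespace CfsgLib.SEModule.U3

open Matrix Module CfsgLib.Classical CfsgLib.Classical.Herm

variable {F : Type*} [Field F] [Fintype F] [CharP F 2] {q n : ℕ}

section
variable (hF : Fintype.card F = q ^ 2) (hq : q = 2 ^ n)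
include hF hq

local notation "h" => Cfsg.hermForm 3 F q

theorem form_smul_left (a : F) (u v : Fin 3 → F) : h (a • u) v = a * h u v := by
  simp only [Cfsg.hermForm, Pi.smul_apply, smul_eq_mul, Finset.mul_sum, mul_assoc]

theorem form_smul_right (a : F) (u v : Fin 3 → F) : h u (a • v) = a ^ q * h u v := by
  simp only [Cfsg.hermForm, Pi.smul_apply, smul_eq_mul, Finset.mul_sum, mul_pow]
  exact Finset.sum_congr rfl fun i _ => by ring

theorem form_add_left (u u' v : Fin 3 → F) : h (u + u') v = h u v + h u' v := by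
  simp only [Cfsg.hermForm, Pi.add_apply, add_mul, Finset.sum_add_distrib]

theorem form_add_right (u v v' : Fin 3 → F) : h u (v + v') = h u v + h u v' := by
  simp only [Cfsg.hermForm, Pi.add_apply]
  rw [← Finset.sum_add_distrib]
  refine Finset.sum_congr rfl fun i _ => ?_
  rw [hq, add_pow_char_pow, mul_add]

theorem pow_q_q (a : F) : (a ^ q) ^ q = a := by
  rw [← pow_mul, ← pow_two, ← hF, FiniteField.pow_card]

theorem form_swap (u v : Fin 3 → F) : h v u = h u v ^ q := by
  simp only [Cfsg.hermForm]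
  rw [hq, sum_pow_char_pow]
  refine Finset.sum_congr rfl fun i _ => ?_
  rw [mul_pow, ← hq, pow_q_q hF hq, mul_comm]

theorem form_nondeg {c : Fin 3 → F} (hc : ∀ u, h u c = 0) : c = 0 := by
  funext i
  have h1 := hc (Pi.single i 1)
  rw [Cfsg.hermForm, Finset.sum_eq_single i (fun j _ hj => by rw [Pi.single_eq_of_ne hj, zero_mul])
    (fun hi => absurd (Finset.mem_univ i) hi), Pi.single_eq_same, one_mul] at h1
  exact pow_eq_zero_iff (by rw [hq]; positivity) |>.1 h1

/-- The difference to the identity. -/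
noncomputable def dmap (g : Cfsg.SU 3 F q) : (Fin 3 → F) →ₗ[F] (Fin 3 → F) :=
  Matrix.mulVecLin (Cfsg.slToMat 3 F (g : SpecialLinearGroup (Fin 3) F) - 1)

theorem map_eq (g : Cfsg.SU 3 F q) (u : Fin 3 → F) :
    Cfsg.slToMat 3 F (g : SpecialLinearGroup (Fin 3) F) *ᵥ u = u + dmap g u := by
  simp [dmap, Matrix.sub_mulVec]

theorem dmap_inj {g g' : Cfsg.SU 3 F q} (e : ∀ u, dmap g u = dmap g' u) : g = g' := by
  refine Subtype.ext (Subtype.ext ?_)
  refine Matrix.ext_of_mulVec_single fun i => ?_
  show Cfsg.slToMat 3 F (g : SpecialLinearGroup (Fin 3) F) *ᵥ _ = Cfsg.slToMat 3 F (g' : SpecialLinearGroup (Fin 3) F) *ᵥ _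
  rw [map_eq hF hq g, map_eq hF hq g', e]

theorem dmap_sq {g : Cfsg.SU 3 F q} (hg : g * g = 1) (u : Fin 3 → F) : dmap g (dmap g u) = 0 := by
  have h1 : Cfsg.slToMat 3 F (g : SpecialLinearGroup (Fin 3) F) *ᵥ
      (Cfsg.slToMat 3 F (g : SpecialLinearGroup (Fin 3) F) *ᵥ u) = u := by
    rw [mulVec_mulVec, ← map_mul, ← Subgroup.coe_mul, hg, Subgroup.coe_one, map_one, one_mulVec]
  rw [map_eq hF hq g u, map_eq hF hq g, map_add] at h1
  have h2 : ∀ x : Fin 3 → F, x + x = 0 := fun x => funext fun i => CharTwo.add_self_eq_zero (x i)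
  calc dmap g (dmap g u)
      = u + dmap g u + (dmap g u + dmap g (dmap g u)) - u
          - (dmap g u + dmap g u) := by abel
    _ = 0 := by rw [h1, h2, sub_self, sub_zero]

/-- An involution is a transvection with isotropic centre. -/
theorem exists_centre {g : Cfsg.SU 3 F q} (hg : g * g = 1) (hg1 : g ≠ 1) :
    ∃ (c : Fin 3 → F) (μ : F), c ≠ 0 ∧ h c c = 0 ∧ μ ≠ 0 ∧ μ ^ q = μ ∧
      ∀ u, dmap g u = (μ * h u c) • c := by
  set N := dmap g with hN
  obtain ⟨u₀, hu₀⟩ : ∃ u, N u ≠ 0 := by
    by_contra hh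
    push Not at hh
    refine hg1 (dmap_inj hF hq fun u => ?_)
    rw [← hN, hh u]
    simp [dmap]
  set c := N u₀ with hc
  have hrange : finrank F (LinearMap.range N) = 1 := by
    have h1 : LinearMap.range N ≤ LinearMap.ker N := by
      rintro _ ⟨u, rfl⟩
      exact dmap_sq hF hq hg u
    have h2 := Submodule.finrank_mono h1
    have h3 := LinearMap.finrank_range_add_finrank_ker N
    rw [Module.finrank_fintype_fun_eq_card, Fintype.card_fin] at h3
    have h4 : 0 < finrank F (LinearMap.range N) := by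
      rw [Nat.pos_iff_ne_zero, Ne, Submodule.finrank_eq_zero, LinearMap.range_eq_bot]
      exact fun e => hu₀ (by rw [hc, e]; rfl)
    omega
  have hφ : ∀ u, ∃ a : F, N u = a • c := by
    intro u
    obtain ⟨a, ha⟩ := (finrank_eq_one_iff_of_nonzero' (⟨c, u₀, rfl⟩ : LinearMap.range N)
      (fun e => hu₀ (congrArg Subtype.val e))).1 hrange ⟨N u, u, rfl⟩
    exact ⟨a, (congrArg Subtype.val ha).symm⟩
  choose φ hφ using hφ
  have hiso : ∀ u v, φ u * h c v + φ v ^ q * h u c + φ u * φ v ^ q * h c c = 0 := by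
    intro u v
    have h1 := g.2 u v
    rw [map_eq hF hq g u, map_eq hF hq g v, ← hN, hφ u, hφ v, form_add_left hF hq, form_add_right hF hq,
      form_add_right hF hq, form_smul_left hF hq, form_smul_left hF hq, form_smul_right hF hq,
      form_smul_right hF hq] at h1
    linear_combination h1
  have hφ0 : φ u₀ = 1 := by
    have h1 : (1 - φ u₀) • c = 0 := by rw [sub_smul, one_smul, ← hφ u₀, hc, sub_self]
    exact (sub_eq_zero.1 ((smul_eq_zero.1 h1).resolve_right hu₀)).symm
  have hφc : φ c = 0 := by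
    have h1 := hφ c
    rw [hc, dmap_sq hF hq hg u₀] at h1
    exact (smul_eq_zero.1 h1.symm).resolve_right hu₀
  have hcc : h c c = 0 := by
    have h1 := hiso u₀ c
    rw [hφ0, hφc, zero_pow (by rw [hq]; positivity), zero_mul, mul_zero, zero_mul, add_zero, add_zero, one_mul] at h1
    exact h1
  set K := h c u₀
  have hlin : ∀ u, h u c = φ u * K := by
    intro u
    have h1 := hiso u u₀
    rw [hcc, hφ0, one_pow, one_mul, mul_zero, add_zero] at h1
    exact (CharTwo.add_eq_zero.1 h1).symm
  have hK : K ≠ 0 := fun e => hu₀ (form_nondeg hF hq fun u => by rw [hlin u, e, mul_zero])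
  refine ⟨c, K⁻¹, hu₀, hcc, inv_ne_zero hK, ?_, fun u => ?_⟩
  · have h1 : K ^ q = K := by
      have h2 := form_swap hF hq u₀ c
      rw [hlin u₀, hφ0, one_mul] at h2
      exact h2.symm
    rw [inv_pow, h1]
  · rw [hlin u, mul_comm (φ u), ← mul_assoc, inv_mul_cancel₀ hK, one_mul]
    exact hφ u

theorem card_elementary_le (E : Subgroup (Cfsg.PSU 3 F q)) (hE : ∀ x ∈ E, x * x = 1) : Nat.card E ≤ q := by
  classical
  set Z := Subgroup.center (Cfsg.SU 3 F q)
  have hZ : Odd (Nat.card Z) := by
    rw [card_center_SU' hF 3 (by norm_num)]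
    exact Odd.of_dvd_nat (by decide : Odd 3) (Nat.gcd_dvd_left _ _)
  have hsq : ∀ c ∈ Z, c * c = 1 → c = 1 := by
    intro c hc h2
    refine orderOf_eq_one_iff.1 (Nat.eq_one_of_dvd_coprimes hZ.coprime_two_left ?_ (Z.orderOf_dvd_natCard hc))
    exact orderOf_dvd_of_pow_eq_one (by rw [pow_two, h2])
  have hlift : ∀ x : E, ∃ g : Cfsg.SU 3 F q, g * g = 1 ∧ QuotientGroup.mk' Z g = x := by
    intro x
    obtain ⟨g, hg⟩ := QuotientGroup.mk'_surjective Z (x : Cfsg.PSU 3 F q)
    have hgg : g * g ∈ Z := (QuotientGroup.eq_one_iff _).1 (by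
      show QuotientGroup.mk' Z (g * g) = 1
      rw [map_mul, hg, hE x x.2])
    obtain ⟨j, hj⟩ := hZ.of_dvd_nat (Z.orderOf_dvd_natCard hgg)
    refine ⟨g * (g * g) ^ j, ?_, ?_⟩
    · have hc : Commute g ((g * g) ^ j) := ((Commute.refl g).mul_right (Commute.refl g)).pow_right j
      calc g * (g * g) ^ j * (g * (g * g) ^ j) = g * ((g * g) ^ j * g) * (g * g) ^ j := by simp only [mul_assoc]
        _ = (g * g) * ((g * g) ^ j * (g * g) ^ j) := by rw [← hc.eq]; simp only [mul_assoc]
        _ = (g * g) ^ (2 * j + 1) := by rw [← pow_add, ← two_mul, ← pow_succ']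
        _ = 1 := by rw [← hj, pow_orderOf_eq_one]
    · rw [map_mul, map_pow, show QuotientGroup.mk' Z (g * g) = 1 from (QuotientGroup.eq_one_iff _).2 hgg, one_pow,
        mul_one, hg]
  choose L hL using hlift
  by_cases htriv : ∀ x : E, L x = 1
  · have : Subsingleton E := ⟨fun x y => Subtype.ext (by rw [← (hL x).2, ← (hL y).2, htriv x, htriv y])⟩
    rw [Nat.card_of_subsingleton (1 : E), hq]
    exact Nat.one_le_two_pow
  push Not at htriv
  obtain ⟨x₀, hx₀⟩ := htriv
  obtain ⟨c, μ, hc0, hcc, hμ, hμq, hN₀⟩ := exists_centre hF hq (hL x₀).1 hx₀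
  have hν : ∀ x : E, ∃ ν : F, ν ^ q = ν ∧ ∀ u, dmap (L x) u = (ν * h u c) • c := by
    intro x
    by_cases hx : L x = 1
    · refine ⟨0, zero_pow (by rw [hq]; positivity), fun u => ?_⟩
      rw [hx, zero_mul, zero_smul]
      simp [dmap]
    obtain ⟨c', μ', hc'0, hc'c', hμ', hμ'q, hN⟩ := exists_centre hF hq (hL x).1 hx
    -- the lifts commute
    have hcomm : L x₀ * L x = L x * L x₀ := by
      set d := L x₀ * L x * (L x₀)⁻¹ * (L x)⁻¹ with hd
      have hdZ : d ∈ Z := (QuotientGroup.eq_one_iff _).1 (by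
        show QuotientGroup.mk' Z d = 1
        rw [hd, map_mul, map_mul, map_mul, map_inv, map_inv, (hL x).2, (hL x₀).2]
        have hxy := hE _ (mul_mem x₀.2 x.2)
        rw [inv_eq_of_mul_eq_one_right (hE _ x.2), inv_eq_of_mul_eq_one_right (hE _ x₀.2), mul_assoc]
        exact hxy)
      have e : L x₀ * L x * (L x₀)⁻¹ = d * L x := by rw [hd, inv_mul_cancel_right]
      have e2 : (d * L x) * (d * L x) = 1 := by
        rw [← e, show L x₀ * L x * (L x₀)⁻¹ * (L x₀ * L x * (L x₀)⁻¹) = L x₀ * (L x * L x) * (L x₀)⁻¹ by group,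
          (hL x).1, mul_one, mul_inv_cancel]
      have hcz : L x * d = d * L x := Subgroup.mem_center_iff.1 hdZ (L x)
      rw [mul_assoc d, ← mul_assoc (L x), hcz, mul_assoc d, (hL x).1, mul_one] at e2
      rw [hsq d hdZ e2, one_mul] at e
      exact mul_inv_eq_iff_eq_mul.1 e
    have hcN : ∀ u, dmap (L x₀) (dmap (L x) u) = dmap (L x) (dmap (L x₀) u) := by
      intro u
      have h1 := congrArg (fun g : Cfsg.SU 3 F q => Cfsg.slToMat 3 F (g : SpecialLinearGroup (Fin 3) F) *ᵥ u) hcomm
      simp only [Subgroup.coe_mul, map_mul, ← mulVec_mulVec] at h1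
      rw [map_eq hF hq (L x) u, map_eq hF hq (L x₀) u, map_eq hF hq (L x₀), map_eq hF hq (L x), map_add, map_add] at h1
      calc _ = (u + dmap (L x) u + (dmap (L x₀) u + dmap (L x₀) (dmap (L x) u))) -
            (u + dmap (L x₀) u + dmap (L x) u) := by abel
        _ = _ := by rw [h1]; abel
    have horth : h c' c = 0 := by
      by_contra hne
      obtain ⟨u, hu⟩ : ∃ u, h u c' ≠ 0 := by
        by_contra hh
        push Not at hh
        exact hc'0 (form_nondeg hF hq hh)
      have h1 := hcN u
      rw [hN, map_smul, hN₀ c', hN₀ u, map_smul, hN c, smul_smul, smul_smul] at h1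
      set a := μ' * h u c' * (μ * h c' c)
      have ha : a ≠ 0 := mul_ne_zero (mul_ne_zero hμ' hu) (mul_ne_zero hμ hne)
      refine hne ?_
      have h2 : c = (a⁻¹ * (μ * h u c * (μ' * h c c'))) • c' := by
        rw [mul_smul, ← h1, smul_smul, inv_mul_cancel₀ ha, one_smul]
      rw [h2, form_smul_right hF hq, hc'c', mul_zero]
    have horth' : h c c' = 0 := by rw [form_swap hF hq c' c, horth, zero_pow (by rw [hq]; positivity)]
    -- so the centres agree
    obtain ⟨α, hα⟩ : ∃ α : F, c' = α • c := by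
      by_contra hno
      push Not at hno
      have hind : ∀ a b : F, a • c + b • c' = 0 → a = 0 ∧ b = 0 := by
        intro a b hab
        by_cases hb : b = 0
        · rw [hb, zero_smul, add_zero] at hab
          exact ⟨(smul_eq_zero.1 hab).resolve_right hc0, hb⟩
        · refine absurd ?_ (hno (b⁻¹ * -a))
          rw [mul_smul, neg_smul, ← eq_neg_of_add_eq_zero_right hab, smul_smul, inv_mul_cancel₀ hb, one_smul]
      let Φ : (Fin 3 → F) →ₗ[F] F × F :=
        { toFun := fun u => (h u c, h u c')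
          map_add' := fun u v => by simp [form_add_left hF hq]
          map_smul' := fun a u => by simp [form_smul_left hF hq] }
      have hker : 2 ≤ finrank F (LinearMap.ker Φ) := by
        have hli : LinearIndependent F ![c, c'] := LinearIndependent.pair_iff.2 hind
        have hmem : ∀ i, ![c, c'] i ∈ LinearMap.ker Φ := by
          intro i
          fin_cases i <;> simp [Φ, hcc, hc'c', horth, horth']
        have := (hli.of_comp (LinearMap.ker Φ).subtype (v := fun i => (⟨![c, c'] i, hmem i⟩ : LinearMap.ker Φ))).fintype_card_le_finrank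
        simpa using this
      have hr : finrank F (LinearMap.range Φ) ≤ 1 := by
        have h3 := LinearMap.finrank_range_add_finrank_ker Φ
        rw [Module.finrank_fintype_fun_eq_card, Fintype.card_fin] at h3
        omega
      obtain ⟨u, hu⟩ : ∃ u, h u c ≠ 0 := by
        by_contra hh
        push Not at hh
        exact hc0 (form_nondeg hF hq hh)
      obtain ⟨w, hw⟩ := finrank_le_one_iff.1 hr
      obtain ⟨a₀, ha₀⟩ := hw ⟨Φ u, u, rfl⟩
      have hw1 : (w : F × F).1 ≠ 0 := fun e => hu (by
        have := congrArg (fun p : LinearMap.range Φ => (p : F × F).1) ha₀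
        simp [e, Φ] at this
        exact this.symm)
      have h4 : ∀ v, (w : F × F).2 * h v c + -(w : F × F).1 * h v c' = 0 := by
        intro v
        obtain ⟨a, ha⟩ := hw ⟨Φ v, v, rfl⟩
        have e1 := congrArg (fun p : LinearMap.range Φ => (p : F × F).1) ha
        have e2 := congrArg (fun p : LinearMap.range Φ => (p : F × F).2) ha
        simp [Φ] at e1 e2
        rw [← e1, ← e2]
        ring
      have h5 := form_nondeg hF hq (c := (w : F × F).2 ^ q • c + (-(w : F × F).1) ^ q • c') fun v => by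
        rw [form_add_right hF hq, form_smul_right hF hq, form_smul_right hF hq, pow_q_q hF hq, pow_q_q hF hq]
        exact h4 v
      exact hw1 (neg_eq_zero.1 ((pow_eq_zero_iff (by rw [hq]; positivity)).1 (hind _ _ h5).2))
    refine ⟨μ' * α ^ q * α, ?_, fun u => ?_⟩
    · rw [mul_pow, mul_pow, pow_q_q hF hq, hμ'q]
      ring
    · rw [hN u, hα, form_smul_right hF hq, smul_smul]
      congr 1
      ring
  choose ν hνq hνN using hν
  let f : E → fixedSub (powHom hF) := fun x => ⟨ν x, hνq x⟩
  have hf : Function.Injective f := by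
    intro x y hxy
    have e : ν x = ν y := congrArg Subtype.val hxy
    refine Subtype.ext ?_
    rw [← (hL x).2, ← (hL y).2, dmap_inj hF hq (g := L x) (g' := L y) fun u => by rw [hνN x u, hνN y u, e]]
  exact (Nat.card_le_card_of_injective f hf).trans_eq (card_fixed_powHom hF)

end

end CfsgLib.SEModule.U3
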